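import Cfsg.Agent.Lib.PMinSocle.Small

/-!
# The shape of `A₆` for `p = 2`
-/

set_option autoImplicit false
set_option linter.unusedSectionVars false
set_option maxRecDepth 8000
set_option maxHeartbeats 1600000

namespace Cfsg.Agent.PMinSocle.A6

open Subgroup

/-- The image list of a permutation. -/
def toL (x : Equiv.Perm (Fin 6)) : List (Fin 6) := List.ofFn x

/-- Composition of image lists. -/
def comp (f g : List (Fin 6)) : List (Fin 6) := g.map fun i => f.getD i.1 0

/-- The identity list. -/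
def idL : List (Fin 6) := List.finRange 6

/-- Powers of an image list. -/
def powL (l : List (Fin 6)) : ℕ → List (Fin 6)
  | 0 => idL
  | k + 1 => comp (powL l k) l

theorem toL_mul (x y : Equiv.Perm (Fin 6)) : toL (x * y) = comp (toL x) (toL y) := by
  refine List.ext_getElem (by simp [toL, comp]) fun i h₁ h₂ => ?_
  simp only [toL, comp, List.getElem_map, List.getElem_ofFn]
  rw [List.getD_eq_getElem _ _ (by simp only [List.length_ofFn]; exact Fin.is_lt _), List.getElem_ofFn]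
  rfl

theorem toL_one : toL 1 = idL := by decide

theorem toL_pow (x : Equiv.Perm (Fin 6)) : ∀ k : ℕ, toL (x ^ k) = powL (toL x) k
  | 0 => toL_one
  | k + 1 => by rw [pow_succ, toL_mul, toL_pow x k, powL]

theorem toL_injective : Function.Injective toL := fun _ _ h =>
  Equiv.ext fun i => congrFun (List.ofFn_injective h) i

/-- All duplicate-free lists of a length. -/
def perms : ℕ → List (List (Fin 6))
  | 0 => [[]]
  | k + 1 => (perms k).flatMap fun l =>
      ((List.finRange 6).filter fun a => !l.contains a).map fun a => a :: l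

theorem mem_perms : ∀ l : List (Fin 6), l.Nodup → l ∈ perms l.length
  | [], _ => List.mem_singleton_self _
  | a :: l, h => by
    rw [List.nodup_cons] at h
    simp only [List.length_cons, perms, List.mem_flatMap]
    exact ⟨l, mem_perms l h.2, List.mem_map.2 ⟨a, List.mem_filter.2 ⟨List.mem_finRange a, by simpa using h.1⟩, rfl⟩⟩

theorem toL_mem (x : Equiv.Perm (Fin 6)) : toL x ∈ perms 6 := by
  have := mem_perms (toL x) (List.nodup_ofFn.2 x.injective)
  rwa [show (toL x).length = 6 from List.length_ofFn] at this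

/-- The generators of the Sylow `2`-subgroup. -/
def a0 : Equiv.Perm (Fin 6) := Equiv.swap 0 3 * Equiv.swap 0 1 * Equiv.swap 0 2 * Equiv.swap 4 5

/-- The second generator. -/
def b0 : Equiv.Perm (Fin 6) := Equiv.swap 0 1 * Equiv.swap 4 5

/-- The elements of the Sylow `2`-subgroup. -/
def uPerm (i : Fin 4 × Fin 2) : Equiv.Perm (Fin 6) := a0 ^ i.1.1 * b0 ^ i.2.1

/-- The Sylow list. -/
def uL : List (List (Fin 6)) :=
  [[0, 1, 2, 3, 4, 5], [2, 3, 1, 0, 5, 4], [1, 0, 3, 2, 4, 5], [3, 2, 0, 1, 5, 4],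
    [1, 0, 2, 3, 5, 4], [3, 2, 1, 0, 4, 5], [0, 1, 3, 2, 5, 4], [2, 3, 0, 1, 4, 5]]

theorem uPerm_even : ∀ i, Equiv.Perm.sign (uPerm i) = 1 := by decide +kernel

theorem uPerm_list : ∀ i, toL (uPerm i) ∈ uL := by decide +kernel

theorem uL_uPerm : ∀ l ∈ uL, ∃ i, toL (uPerm i) = l := by decide +kernel

theorem uL_nodup : uL.Nodup := by decide +kernel

theorem uL_mul : ∀ l ∈ uL, ∀ m ∈ uL, comp l m ∈ uL := by decide +kernel

/-- The Sylow `2`-subgroup. -/
def U : Subgroup ↥(alternatingGroup (Fin 6)) where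
  carrier := {x | toL x.1 ∈ uL}
  one_mem' := by
    show toL 1 ∈ uL
    rw [toL_one]
    decide
  mul_mem' {x y} hx hy := by
    show toL (x.1 * y.1) ∈ uL
    rw [toL_mul]
    exact uL_mul _ hx _ hy
  inv_mem' {x} hx := by
    have key : ∀ n : ℕ, toL (x ^ n : ↥(alternatingGroup (Fin 6))).1 ∈ uL := fun n => by
      induction n with
      | zero =>
        show toL 1 ∈ uL
        rw [toL_one]
        decide
      | succ n ih =>
        show toL ((x ^ n * x : ↥(alternatingGroup (Fin 6))).1) ∈ uL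
        rw [Subgroup.coe_mul, toL_mul]
        exact uL_mul _ ih _ hx
    show toL (x⁻¹).1 ∈ uL
    have h := key (orderOf x - 1)
    rwa [← show x⁻¹ = x ^ (orderOf x - 1) by
      rw [inv_eq_iff_mul_eq_one, ← pow_succ', Nat.sub_add_cancel (orderOf_pos x), pow_orderOf_eq_one]] at h

theorem mem_U {x : ↥(alternatingGroup (Fin 6))} : x ∈ U ↔ toL x.1 ∈ uL := Iff.rfl

theorem card_U : Nat.card U = 8 := by
  let f : ↥U → {l // l ∈ uL} := fun x => ⟨toL x.1.1, x.2⟩
  have hf : Function.Bijective f := by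
    refine ⟨fun x y h => Subtype.ext (Subtype.ext (toL_injective (congrArg Subtype.val h))), ?_⟩
    rintro ⟨l, hl⟩
    obtain ⟨i, hi⟩ := uL_uPerm l hl
    exact ⟨⟨⟨uPerm i, Equiv.Perm.mem_alternatingGroup.2 (uPerm_even i)⟩, uPerm_list i⟩, Subtype.ext hi⟩
  rw [Nat.card_eq_of_bijective f hf, Nat.card_eq_fintype_card,
    Fintype.card_of_subtype uL.toFinset (fun l => List.mem_toFinset), List.toFinset_card_of_nodup uL_nodup]
  rfl

/-- The involution of the first maximal subgroup. -/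
def piA : Equiv.Perm (Fin 6) := Equiv.swap 0 1 * Equiv.swap 2 3 * Equiv.swap 4 5

/-- The involution of the second maximal subgroup. -/
def piB : Equiv.Perm (Fin 6) := Equiv.swap 4 5

/-- The stabiliser of three pairs. -/
def Pa : Subgroup ↥(alternatingGroup (Fin 6)) :=
  (centralizer ({piA} : Set (Equiv.Perm (Fin 6)))).subgroupOf _

/-- The stabiliser of a pair. -/
def Pb : Subgroup ↥(alternatingGroup (Fin 6)) :=
  (centralizer ({piB} : Set (Equiv.Perm (Fin 6)))).subgroupOf _

theorem mem_P {π : Equiv.Perm (Fin 6)} {x : ↥(alternatingGroup (Fin 6))} :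
    x ∈ (centralizer ({π} : Set (Equiv.Perm (Fin 6)))).subgroupOf (alternatingGroup (Fin 6)) ↔
      comp (toL x.1) (toL π) = comp (toL π) (toL x.1) := by
  rw [mem_subgroupOf, mem_centralizer_singleton_iff, ← toL_mul, ← toL_mul, toL_injective.eq_iff]

/-- The test on a candidate generator of a subgroup over `U`. -/
def check (l : List (Fin 6)) : Bool :=
  !((powL l 3 == idL || powL l 5 == idL) &&
      uL.all fun u => uL.any fun v => (List.range 5).any fun k => comp l u == comp v (powL l k)) ||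
    l == idL ||
    ((powL l 5 != idL) &&
      (comp l (toL piA) == comp (toL piA) l || comp l (toL piB) == comp (toL piB) l))

theorem check_all : (perms 6).all check = true := by decide +kernel

theorem U_le_Pa : U ≤ Pa := fun x hx => mem_P.2 ((by decide +kernel : ∀ l ∈ uL,
  comp l (toL piA) = comp (toL piA) l) _ hx)

theorem U_le_Pb : U ≤ Pb := fun x hx => mem_P.2 ((by decide +kernel : ∀ l ∈ uL,
  comp l (toL piB) = comp (toL piB) l) _ hx)

/-- An element of the first maximal subgroup only. -/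
def ga : ↥(alternatingGroup (Fin 6)) :=
  ⟨Equiv.swap 0 2 * Equiv.swap 2 4 * (Equiv.swap 1 3 * Equiv.swap 3 5),
    Equiv.Perm.mem_alternatingGroup.2 (by decide +kernel)⟩

/-- An element of the second maximal subgroup only. -/
def gb : ↥(alternatingGroup (Fin 6)) :=
  ⟨Equiv.swap 0 1 * Equiv.swap 1 2, Equiv.Perm.mem_alternatingGroup.2 (by decide +kernel)⟩

theorem ga_spec : ga ∈ Pa ∧ ga ∉ Pb ∧ ga ∉ U := by
  simp only [Pa, Pb, mem_P, mem_U]
  decide +kernel

theorem gb_spec : gb ∈ Pb ∧ gb ∉ Pa ∧ gb ∉ U := by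
  simp only [Pa, Pb, mem_P, mem_U]
  decide +kernel

theorem card_A6 : Nat.card ↥(alternatingGroup (Fin 6)) = 2 ^ 3 * 45 := by
  rw [nat_card_alternatingGroup, Nat.card_fin]; decide

/-- The proper overgroups of the Sylow subgroup. -/
theorem overgroup {M : Subgroup ↥(alternatingGroup (Fin 6))} (hU : U ≤ M) (hne : M ≠ U) (hMt : M ≠ ⊤) :
    M.index = 15 ∧ (M ≤ Pa ∨ M ≤ Pb) := by
  classical
  haveI : Fact (Nat.Prime 2) := ⟨Nat.prime_two⟩
  haveI : IsSimpleGroup ↥(alternatingGroup (Fin 6)) :=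
    alternatingGroup.isSimpleGroup (by rw [Nat.card_fin]; norm_num)
  have hUi : U.index = 45 := by
    have := card_mul_index U
    rw [card_U, card_A6] at this
    omega
  have hf := BTOver.Small.index_dvd_factorial hMt
  have hMc := M.card_mul_index
  have hrel := relIndex_mul_index hU
  rw [hUi] at hrel
  have hm : M.index ∈ (45 : ℕ).divisors :=
    Nat.mem_divisors.2 ⟨⟨_, by rw [mul_comm]; exact hrel.symm⟩, by norm_num⟩
  rw [show Nat.divisors 45 = {1, 3, 5, 9, 15, 45} by decide] at hm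
  simp only [Finset.mem_insert, Finset.mem_singleton] at hm
  rw [card_A6] at hf hMc
  obtain ⟨ℓ, hℓ, hℓ', hrel'⟩ : ∃ ℓ, ℓ.Prime ∧ (ℓ = 3 ∧ M.index = 15 ∨ ℓ = 5 ∧ M.index = 9) ∧
      Nat.card M = 8 * ℓ := by
    rcases hm with h | h | h | h | h | h <;> rw [h] at hf hMc
    · exact absurd (index_eq_one.1 h) hMt
    · exact absurd hf (by decide)
    · exact absurd hf (by decide)
    · exact ⟨5, by norm_num, Or.inr ⟨rfl, h⟩, by omega⟩
    · exact ⟨3, by norm_num, Or.inl ⟨rfl, h⟩, by omega⟩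
    · exact absurd (eq_of_le_of_card_ge hU (by rw [card_U]; omega)).symm hne
  haveI := Fact.mk hℓ
  have hℓ5 : ℓ ≤ 5 := by omega
  have hℓ2 : 2 < ℓ := by omega
  obtain ⟨⟨x, hxM⟩, hx⟩ := exists_prime_orderOf_dvd_card' (G := ↥M) ℓ (hrel' ▸ dvd_mul_left ℓ 8)
  rw [orderOf_mk] at hx
  let f : ↥U × Fin ℓ → ↥M := fun i => ⟨(i.1 : ↥(alternatingGroup (Fin 6))) * x ^ i.2.1,
    mul_mem (hU i.1.2) (pow_mem hxM _)⟩
  have hinj : Function.Injective f := by
    have hbot : U ⊓ zpowers x = ⊥ := inf_eq_bot_of_coprime (by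
      rw [card_U, Nat.card_zpowers, hx, show (8 : ℕ) = 2 ^ 3 by norm_num]
      exact Nat.Coprime.pow_left _ ((Nat.coprime_primes Nat.prime_two hℓ).2 (by omega)))
    rintro ⟨u, i⟩ ⟨v, j⟩ he
    have he' : (u : ↥(alternatingGroup (Fin 6))) * x ^ i.1 = v * x ^ j.1 := congrArg Subtype.val he
    have h1 : (v : ↥(alternatingGroup (Fin 6)))⁻¹ * u = x ^ j.1 * (x ^ i.1)⁻¹ := by
      rw [eq_mul_inv_iff_mul_eq, mul_assoc, he', inv_mul_cancel_left]
    have h2 : (v : ↥(alternatingGroup (Fin 6)))⁻¹ * u = 1 :=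
      mem_bot.1 (hbot ▸ mem_inf.2 ⟨mul_mem (inv_mem v.2) u.2,
        h1 ▸ mul_mem (pow_mem (mem_zpowers x) _) (inv_mem (pow_mem (mem_zpowers x) _))⟩)
    have huv : u = v := Subtype.ext (inv_mul_eq_one.1 h2).symm
    subst huv
    have h3 := mul_left_cancel he'
    exact Prod.ext rfl (Fin.ext (pow_injOn_Iio_orderOf (by rw [Set.mem_Iio, hx]; exact i.2)
      (by rw [Set.mem_Iio, hx]; exact j.2) h3))
  have hbij := (Nat.bijective_iff_injective_and_card f).2
    ⟨hinj, by rw [Nat.card_prod, card_U, Nat.card_fin, hrel']⟩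
  have hc := List.all_eq_true.1 check_all _ (toL_mem x.1)
  simp only [check, Bool.or_eq_true, Bool.and_eq_true, Bool.not_eq_true', Bool.and_eq_false_iff,
    bne_iff_ne, beq_iff_eq, ne_eq] at hc
  have hpow : ∀ k : ℕ, toL (x ^ k : ↥(alternatingGroup (Fin 6))).1 = powL (toL x.1) k := fun k => by
    rw [SubmonoidClass.coe_pow, toL_pow]
  have hxℓ : powL (toL x.1) ℓ = idL := by
    rw [← hpow, ← hx, pow_orderOf_eq_one]
    exact toL_one
  have hsurj : ∀ u ∈ uL, ∃ v ∈ uL, ∃ k ∈ List.range 5, comp (toL x.1) u = comp v (powL (toL x.1) k) := by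
    intro u hu
    obtain ⟨i, rfl⟩ := uL_uPerm u hu
    set w : ↥(alternatingGroup (Fin 6)) := ⟨uPerm i, Equiv.Perm.mem_alternatingGroup.2 (uPerm_even i)⟩
    have hw : w ∈ U := uPerm_list i
    obtain ⟨⟨v, k⟩, hvk⟩ := hbij.2 ⟨x * w, mul_mem hxM (hU hw)⟩
    refine ⟨_, v.2, k.1, List.mem_range.2 (lt_of_lt_of_le k.2 hℓ5), ?_⟩
    have := congrArg (fun z : ↥M => toL z.1.1) hvk
    simp only [f, Subgroup.coe_mul, toL_mul, hpow] at this
    exact this.symm
  have hx1 : toL x.1 ≠ idL := fun h => by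
    have : x = 1 := Subtype.ext (toL_injective (h.trans toL_one.symm))
    rw [this, orderOf_one] at hx
    omega
  rcases hc with (hc | hc) | ⟨h5, hP⟩
  · exfalso
    rcases hc with hc | hc
    · rcases hℓ' with ⟨rfl, -⟩ | ⟨rfl, -⟩ <;> simp [hxℓ] at hc
    · rw [List.all_eq_false] at hc
      obtain ⟨u, hu, hc⟩ := hc
      obtain ⟨v, hv, k, hk, e⟩ := hsurj u hu
      exact hc (List.any_eq_true.2 ⟨v, hv, List.any_eq_true.2 ⟨k, hk, beq_iff_eq.2 e⟩⟩)
  · exact absurd hc hx1
  · rcases hℓ' with ⟨rfl, hidx⟩ | ⟨rfl, -⟩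
    · refine ⟨hidx, ?_⟩
      have hgen : ∀ P : Subgroup ↥(alternatingGroup (Fin 6)), U ≤ P → x ∈ P → M ≤ P := by
        intro P hUP hxP y hy
        obtain ⟨⟨u, k⟩, huk⟩ := hbij.2 ⟨y, hy⟩
        rw [← show (u : ↥(alternatingGroup (Fin 6))) * x ^ k.1 = y from congrArg Subtype.val huk]
        exact mul_mem (hUP u.2) (pow_mem hxP _)
      exact hP.imp (fun h => hgen Pa U_le_Pa (mem_P.2 h)) (fun h => hgen Pb U_le_Pb (mem_P.2 h))
    · exact absurd hxℓ h5

theorem ne_top_of_notMem {H : Subgroup ↥(alternatingGroup (Fin 6))} {g : ↥(alternatingGroup (Fin 6))}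
    (h : g ∉ H) : H ≠ ⊤ := fun e => h (e ▸ mem_top g)

theorem normalizer_U : normalizer (U : Set ↥(alternatingGroup (Fin 6))) = U := by
  by_contra hne
  set g : Fin 2 → ↥(alternatingGroup (Fin 6)) := ![ga, gb]
  have hU : U ≤ normalizer (U : Set ↥(alternatingGroup (Fin 6))) := le_normalizer
  have key : ∀ g : ↥(alternatingGroup (Fin 6)), g ∈ normalizer (U : Set ↥(alternatingGroup (Fin 6))) →
      ∀ u ∈ U, g * u * g⁻¹ ∈ U := fun g hg u hu => (mem_normalizer_iff.1 hg u).1 hu
  let b : ↥(alternatingGroup (Fin 6)) := ⟨uPerm (1, 0), Equiv.Perm.mem_alternatingGroup.2 (uPerm_even _)⟩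
  have hb : b ∈ U := uPerm_list _
  have hga : ga ∉ normalizer (U : Set ↥(alternatingGroup (Fin 6))) := fun h =>
    absurd (key _ h b hb) (by rw [mem_U]; decide +kernel)
  have hgb : gb ∉ normalizer (U : Set ↥(alternatingGroup (Fin 6))) := fun h =>
    absurd (key _ h b hb) (by rw [mem_U]; decide +kernel)
  obtain ⟨hidx, hle⟩ := overgroup hU hne (ne_top_of_notMem hga)
  rcases hle with hle | hle
  · obtain ⟨hidx', -⟩ := overgroup U_le_Pa (fun h => ga_spec.2.2 (h ▸ ga_spec.1))
      (ne_top_of_notMem gb_spec.2.1)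
    exact hga (eq_of_le_of_card_ge hle (by
      have a := card_mul_index (normalizer (U : Set ↥(alternatingGroup (Fin 6))))
      have b := card_mul_index Pa
      rw [hidx] at a; rw [hidx', ← a] at b; omega) ▸ ga_spec.1)
  · obtain ⟨hidx', -⟩ := overgroup U_le_Pb (fun h => gb_spec.2.2 (h ▸ gb_spec.1))
      (ne_top_of_notMem ga_spec.2.1)
    exact hgb (eq_of_le_of_card_ge hle (by
      have a := card_mul_index (normalizer (U : Set ↥(alternatingGroup (Fin 6))))
      have b := card_mul_index Pb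
      rw [hidx] at a; rw [hidx', ← a] at b; omega) ▸ gb_spec.1)

theorem atoms : Atoms U {Pa, Pb} ∧ ({Pa, Pb} : Set (Subgroup ↥(alternatingGroup (Fin 6)))).ncard = 2 := by
  have hPa : Pa ≠ U := fun h => ga_spec.2.2 (h ▸ ga_spec.1)
  have hPb : Pb ≠ U := fun h => gb_spec.2.2 (h ▸ gb_spec.1)
  have hab : ¬ Pa ≤ Pb := fun h => ga_spec.2.1 (h ga_spec.1)
  have hba : ¬ Pb ≤ Pa := fun h => gb_spec.2.1 (h gb_spec.1)
  refine ⟨atoms_pair ?_ ?_ (ne_top_of_notMem gb_spec.2.1) (ne_top_of_notMem ga_spec.2.1) hab hba ?_,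
    Set.ncard_pair fun h => hab h.le⟩
  · rw [normalizer_U]; exact lt_of_le_of_ne U_le_Pa hPa.symm
  · rw [normalizer_U]; exact lt_of_le_of_ne U_le_Pb hPb.symm
  · intro M hM
    rw [normalizer_U] at hM
    by_cases hMt : M = ⊤
    · exact Or.inr (Or.inr hMt)
    obtain ⟨hidx, hle⟩ := overgroup hM.le hM.ne' hMt
    rcases hle with hle | hle
    · obtain ⟨hidx', -⟩ := overgroup U_le_Pa hPa (ne_top_of_notMem gb_spec.2.1)
      left
      refine eq_of_le_of_card_ge hle ?_
      have a := card_mul_index M; have b := card_mul_index Pa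
      rw [hidx] at a; rw [hidx', ← a] at b; omega
    · obtain ⟨hidx', -⟩ := overgroup U_le_Pb hPb (ne_top_of_notMem ga_spec.2.1)
      right; left
      refine eq_of_le_of_card_ge hle ?_
      have a := card_mul_index M; have b := card_mul_index Pb
      rw [hidx] at a; rw [hidx', ← a] at b; omega

theorem not_dvd : ¬ 2 ∣ U.index := by
  have := card_mul_index U
  rw [card_U, card_A6] at this
  omega

end A6

theorem good_alt6 {L : Type*} [Group L] (e : L ≃* ↥(alternatingGroup (Fin 6))) (U : Sylow 2 L) :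
    Shape 2 L (U : Subgroup L) := by
  haveI : Fact (Nat.Prime 2) := ⟨Nat.prime_two⟩
  haveI : Finite L := Finite.of_equiv _ e.symm.toEquiv
  have hp : IsPGroup 2 A6.U := IsPGroup.of_card (n := 3) (by rw [A6.card_U]; norm_num)
  refine Shape.sylow e.symm (hp.toSylow A6.not_dvd) ?_ U
  rw [IsPGroup.toSylow_coe]
  exact Or.inl ⟨_, A6.atoms.1, Or.inr (Or.inl ⟨A6.atoms.2, Or.inr (Or.inr (Or.inr ⟨MulEquiv.refl _⟩))⟩)⟩

end Cfsg.Agent.PMinSocle
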