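import Cfsg.Agent.Lib.PMinSocle.Core
import Cfsg.Agent.Lib.BorelTitsOver.BN
import Cfsg.Agent.Lib.Steinberg.SLPair

/-!
# Atoms from a split BN-pair; diagram and index invariants of the minimal parabolics
-/

set_option autoImplicit false
set_option linter.unusedSectionVars false
set_option maxHeartbeats 400000

namespace Cfsg.Agent.PMinSocle

open Subgroup Cfsg.Agent.BN Cfsg.Agent.BTOver

variable {G : Type*} [Group G] (P : Cfsg.BNPair G)

/-- The minimal parabolics. -/
def minPar : Set (Subgroup G) := (fun s => P.parabolic {s}) '' P.S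

/-- Commutation in the Weyl group. -/
def Cm (s t : G) : Prop := (s * t)⁻¹ * (t * s) ∈ P.B

theorem Cm.symm {s t : G} (h : Cm P s t) : Cm P t s := by
  unfold Cm at *
  have := inv_mem h
  simpa [mul_assoc] using this

theorem Cm.refl (s : G) : Cm P s s := by
  unfold Cm
  rw [inv_mul_cancel]
  exact one_mem _

theorem singleton_sub {s : G} (hs : s ∈ P.S) : {s} ⊆ P.S := Set.singleton_subset_iff.2 hs

theorem parabolic_cases {s : G} (hs : s ∈ P.S) {g : G} (hg : g ∈ P.parabolic {s}) :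
    g ∈ P.B ∨ ∃ u ∈ P.B, ∃ v ∈ P.B, g = u * s * v := by
  obtain ⟨k, -, hk, hw, hd⟩ := parabolic_mem_cell P (singleton_sub P hs) hg
  have hset : {w | ∃ t : P.S, (t : G) ∈ ({s} : Set G) ∧ w = σ P t} = {σ P ⟨s, hs⟩} := by
    ext w
    constructor
    · rintro ⟨t, ht, rfl⟩
      have : t = ⟨s, hs⟩ := Subtype.ext ht
      simp [this]
    · rintro rfl
      exact ⟨⟨s, hs⟩, rfl, rfl⟩
  rw [BN.wJ, hset, ← Subgroup.zpowers_eq_closure] at hw
  obtain ⟨i, hi⟩ := hw
  rw [← cell_mk P hk, ← hi] at hd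
  rcases Int.even_or_odd' i with ⟨j, rfl | rfl⟩
  · left
    simp only [zpow_mul] at hd
    rw [show σ P ⟨s, hs⟩ ^ (2 : ℤ) = 1 by rw [zpow_two, σ_mul_self], one_zpow, cell_one] at hd
    exact hd
  · right
    simp only [zpow_add, zpow_mul, zpow_one] at hd
    rw [show σ P ⟨s, hs⟩ ^ (2 : ℤ) = 1 by rw [zpow_two, σ_mul_self], one_zpow, one_mul, cell_σ] at hd
    obtain ⟨u, hu, v, hv, e⟩ := DoubleCoset.mem_doubleCoset.1 hd
    exact ⟨u, hu, v, hv, e⟩

theorem self_mem_parabolic (s : G) : s ∈ P.parabolic {s} := subset_parabolic P _ rfl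

theorem parabolic_injOn : Set.InjOn (fun s => P.parabolic {s}) P.S := fun _ hs _ ht h =>
  Set.singleton_injective (parabolic_inj P (singleton_sub P hs) (singleton_sub P ht) h)

theorem ncard_minPar : (minPar P).ncard = P.S.ncard := Set.ncard_image_of_injOn (parabolic_injOn P)

variable {U : Subgroup G} (hU : Split P U)
include hU

theorem normalizer_eq : normalizer (U : Set G) = P.B := by
  have hB : P.B ≤ normalizer (U : Set G) := fun b hb =>
    mem_normalizer_iff.2 fun x => ⟨hU.conj b hb x, fun h => by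
      simpa [mul_assoc] using hU.conj b⁻¹ (inv_mem hb) _ h⟩
  rw [eq_parabolic P _ hB]
  refine le_antisymm (sup_le le_rfl ((closure_le _).2 ?_)) (B_le_parabolic P _)
  rintro s ⟨hs, hsN⟩
  exfalso
  refine P.conj_ne s hs (Set.Subset.antisymm ?_ ?_)
  · rintro _ ⟨b, hb, rfl⟩
    obtain ⟨u, hu, t, ht, rfl⟩ := hU.decomp b hb
    have h1 : s * u * s⁻¹ ∈ P.B := hU.le ((mem_normalizer_iff.1 hsN u).1 hu)
    have e : s * (u * t) * s = (s * u * s⁻¹) * (s * t * s⁻¹) * (s * s) := by group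
    show s * (u * t) * s ∈ P.B
    rw [e]
    exact mul_mem (mul_mem h1 (P.conj_mem s (P.subset hs) t ht)) (P.sq_mem s hs)
  · intro x hx
    obtain ⟨u, hu, t, ht, rfl⟩ := hU.decomp x hx
    have h2 : s⁻¹ * u * s ∈ U :=
      (mem_normalizer_iff.1 hsN _).2 (by simpa [mul_assoc] using hu)
    refine ⟨(s⁻¹ * u * s) * (s⁻¹ * t * s⁻¹⁻¹) * (s * s)⁻¹, mul_mem (mul_mem (hU.le h2)
      (P.conj_mem s⁻¹ (inv_mem (P.subset hs)) t ht)) (inv_mem (P.sq_mem s hs)), ?_⟩
    show s * _ * s = _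
    group

theorem atoms (hS : P.S.Nonempty) : Atoms U (minPar P) where
  nonempty := hS.image _
  lt := by
    rintro _ ⟨s, hs, rfl⟩
    rw [normalizer_eq P hU]
    exact lt_of_le_not_ge (B_le_parabolic P _) fun h => not_mem_B P hs (h (self_mem_parabolic P s))
  atom := fun M hM => by
    rw [normalizer_eq P hU] at hM
    have he := eq_parabolic P M hM.le
    obtain ⟨s, hs, hsM⟩ : ∃ s ∈ P.S, s ∈ M := by
      by_contra hcon
      push Not at hcon
      refine hM.ne ?_
      rw [he, show {s | s ∈ P.S ∧ s ∈ M} = (∅ : Set G) from Set.eq_empty_of_forall_notMem fun s h => hcon s h.1 h.2]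
      simp [Cfsg.BNPair.parabolic]
    exact ⟨_, ⟨s, hs, rfl⟩, sup_le hM.le ((closure_le _).2 (by simpa using hsM))⟩
  top := fun M hM hall => by
    rw [normalizer_eq P hU] at hM
    rw [eq_top_iff, ← P.sup_eq_top]
    refine sup_le hM ?_
    rw [← P.closure_sup]
    exact sup_le ((closure_le _).2 fun s hs => hall _ ⟨s, hs, rfl⟩ (self_mem_parabolic P s))
      (inf_le_left.trans hM)
  proper := fun J hJ hne htop => by
    rw [normalizer_eq P hU] at htop
    have hle : P.B ⊔ sSup J ≤ P.parabolic {s | s ∈ P.S ∧ P.parabolic {s} ∈ J} := by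
      refine sup_le (B_le_parabolic P _) (sSup_le fun Q hQ => ?_)
      obtain ⟨s, hs, rfl⟩ := hJ hQ
      exact sup_le (B_le_parabolic P _)
        ((closure_le _).2 (Set.singleton_subset_iff.2 (subset_parabolic P _ (by exact ⟨hs, hQ⟩))))
    refine hne (Set.Subset.antisymm hJ ?_)
    rintro _ ⟨s, hs, rfl⟩
    exact ((mem_parabolic_iff P (fun x hx => hx.1) hs).1 (hle (htop ▸ mem_top s))).2
  anti := by
    rintro _ ⟨s, hs, rfl⟩ _ ⟨t, ht, rfl⟩ hle
    have := (mem_parabolic_iff P (singleton_sub P ht) hs).1 (hle (self_mem_parabolic P s))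
    rw [Set.mem_singleton_iff.1 this]

omit hU in
/-- Elementwise permutability. -/
def Perm2 (A B : Subgroup G) : Prop := ∀ x ∈ A, ∀ y ∈ B, ∃ y' ∈ B, ∃ x' ∈ A, x * y = y' * x'

omit hU in
theorem Perm2.map {A B : Subgroup G} (h : Perm2 A B) (α : MulAut G) :
    Perm2 (A.map α.toMonoidHom) (B.map α.toMonoidHom) := by
  rintro _ ⟨x, hx, rfl⟩ _ ⟨y, hy, rfl⟩
  obtain ⟨y', hy', x', hx', e⟩ := h x hx y hy
  exact ⟨_, ⟨y', hy', rfl⟩, _, ⟨x', hx', rfl⟩, by
    show α x * α y = α y' * α x'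
    rw [← map_mul, e, map_mul]⟩

omit hU in
theorem perm2_iff {s t : G} (hs : s ∈ P.S) (ht : t ∈ P.S) :
    Perm2 (P.parabolic {s}) (P.parabolic {t}) ↔ Cm P s t := by
  constructor
  · intro h
    by_cases hst : s = t
    · subst hst
      exact Cm.refl P s
    obtain ⟨y, hy, x, hx, e⟩ := h s (self_mem_parabolic P s) t (self_mem_parabolic P t)
    have hw : (s * t : G) ∈ cell P (σ P ⟨s, hs⟩ * σ P ⟨t, ht⟩) := by
      rw [σ, σ, ← wmk_mul P (P.subset hs) (P.subset ht), cell_mk]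
      exact self_mem_dc P _
    have hS : ∀ r : P.S, ∀ a ∈ P.B, ∀ b ∈ P.B, a * (r : G) * b ∈ cell P (σ P r) := fun r a ha b hb =>
      cell_mul_right P hb (cell_mul_left P ha (self_mem_cell_σ P r))
    have hne : σ P ⟨s, hs⟩ ≠ σ P ⟨t, ht⟩ := fun h => hst (congrArg Subtype.val (σ_inj P h))
    rcases parabolic_cases P ht hy with hyB | ⟨a, ha, b, hb, rfl⟩ <;>
      rcases parabolic_cases P hs hx with hxB | ⟨c, hc, d, hd, rfl⟩
    · have h1 : s * t ∈ cell P 1 := by rw [cell_one, e]; exact mul_mem hyB hxB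
      exact absurd ((mul_eq_one_iff_eq_inv.1 (eq_of_mem_cell P hw h1)).trans (σ_inv P _)) hne
    · have h1 : s * t ∈ cell P (σ P ⟨s, hs⟩) := by
        rw [e]; exact cell_mul_left P hyB (hS ⟨s, hs⟩ c hc d hd)
      exact absurd (mul_eq_left.1 (eq_of_mem_cell P hw h1)) (σ_ne_one P _)
    · have h1 : s * t ∈ cell P (σ P ⟨t, ht⟩) := by
        rw [e]; exact cell_mul_right P hxB (hS ⟨t, ht⟩ a ha b hb)
      exact absurd (mul_eq_right.1 (eq_of_mem_cell P hw h1)) (σ_ne_one P _)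
    · rcases mul_mem_cell P ⟨t, ht⟩ _ (hS ⟨t, ht⟩ a ha b hb) (hS ⟨s, hs⟩ c hc d hd) with h1 | h1
      · rw [← e] at h1
        have h2 : wmk P (s * t) (P.N.mul_mem (P.subset hs) (P.subset ht)) =
            wmk P (t * s) (P.N.mul_mem (P.subset ht) (P.subset hs)) := eq_of_mem_cell P hw h1
        exact (wmk_eq_iff P _ _).1 h2
      · rw [← e] at h1
        exact absurd (mul_eq_left.1 (eq_of_mem_cell P hw h1)) (σ_ne_one P _)
  · intro h x hx y hy
    rcases parabolic_cases P hs hx with hxB | ⟨a, ha, b, hb, rfl⟩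
    · exact ⟨x * y, mul_mem (B_le_parabolic P _ hxB) hy, 1, one_mem _, (mul_one _).symm⟩
    rcases parabolic_cases P ht hy with hyB | ⟨c, hc, d, hd, rfl⟩
    · exact ⟨1, one_mem _, _, mul_mem (mul_mem (mul_mem (B_le_parabolic P _ ha) (self_mem_parabolic P s))
        (B_le_parabolic P _ hb)) (B_le_parabolic P _ hyB), (one_mul _).symm⟩
    have hBt := B_le_parabolic P ({t} : Set G)
    have hBs := B_le_parabolic P ({s} : Set G)
    rcases P.mul_mem_union s hs t (P.subset ht) (b * c) (mul_mem hb hc) with h1 | h1 <;>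
      obtain ⟨e₁, he₁, e₂, he₂, e⟩ := DoubleCoset.mem_doubleCoset.1 h1
    · refine ⟨a * e₁ * t, mul_mem (mul_mem (hBt ha) (hBt he₁)) (self_mem_parabolic P t),
        s * ((t * s)⁻¹ * (s * t) * e₂ * d), mul_mem (self_mem_parabolic P s)
          (hBs (mul_mem (mul_mem (Cm.symm P h) he₂) hd)), ?_⟩
      calc a * s * b * (c * t * d) = a * (s * (b * c) * t) * d := by group
        _ = _ := by rw [e]; group
    · refine ⟨a * e₁ * t * e₂ * d, mul_mem (mul_mem (mul_mem (mul_mem (hBt ha) (hBt he₁))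
        (self_mem_parabolic P t)) (hBt he₂)) (hBt hd), 1, one_mem _, ?_⟩
      calc a * s * b * (c * t * d) = a * (s * (b * c) * t) * d := by group
        _ = _ := by rw [e]; group

/-- A leaf and a node with two neighbours are not exchanged. -/
theorem asym_valence {s₀ s₁ s₂ : G} (h₀ : s₀ ∈ P.S) (h₁ : s₁ ∈ P.S) (h₂ : s₂ ∈ P.S) (hne : s₀ ≠ s₂)
    (hc0 : ¬ Cm P s₁ s₀) (hc2 : ¬ Cm P s₁ s₂) (hleaf : ∀ t ∈ P.S, t ≠ s₁ → Cm P s₀ t) :
    Asym U (minPar P) := by
  refine ⟨_, ⟨s₀, h₀, rfl⟩, _, ⟨s₁, h₁, rfl⟩, fun α hα he => ?_⟩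
  have hA := atoms P hU ⟨s₀, h₀⟩
  have key : ∀ u ∈ P.S, ¬ Cm P s₁ u →
      (P.parabolic {u}).map α⁻¹.toMonoidHom = P.parabolic {s₁} := by
    intro u hu hcu
    obtain ⟨v, hv, hv'⟩ := hA.map_mem α⁻¹ (map_symm_eq α hα) (P := P.parabolic {u}) ⟨u, hu, rfl⟩
    have hv1 : v = s₁ := by
      by_contra hv1
      apply hcu
      have h := ((perm2_iff P h₀ hv).2 (hleaf v hv hv1)).map α
      rw [he] at h
      have h2 : (P.parabolic {v}).map α.toMonoidHom = P.parabolic {u} := by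
        have := map_symm_eq α⁻¹ hv'.symm
        rwa [inv_inv] at this
      rw [h2] at h
      exact (perm2_iff P h₁ hu).1 h
    rw [← hv', hv1]
  exact hne (parabolic_injOn P h₀ h₂
    (map_injective α⁻¹.injective ((key s₀ h₀ hc0).trans (key s₂ h₂ hc2).symm)))

/-- Minimal parabolics of different index over `B` are not exchanged. -/
theorem asym_index {s t : G} (hs : s ∈ P.S) (ht : t ∈ P.S)
    (h : P.B.relIndex (P.parabolic {s}) ≠ P.B.relIndex (P.parabolic {t})) : Asym U (minPar P) := by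
  refine ⟨_, ⟨s, hs, rfl⟩, _, ⟨t, ht, rfl⟩, fun α hα he => h ?_⟩
  have hB := map_normalizer α hα
  rw [normalizer_eq P hU] at hB
  rw [← show (P.parabolic {s}).map α.toMonoidHom = P.parabolic {t} from he]
  conv_rhs => arg 1; rw [← hB]
  exact (relIndex_map_map_of_injective _ _ α.injective).symm

omit hU in
/-- The index of `B` in a minimal parabolic. -/
theorem relIndex_parabolic [Finite G] {s : G} (hs : s ∈ P.S) (Y : Subgroup G) (hY : Y ≤ P.B)
    (hdec : ∀ b ∈ P.B, ∃ y ∈ Y, s⁻¹ * (y⁻¹ * b) * s ∈ P.B) (hinj : ∀ y ∈ Y, s⁻¹ * y * s ∈ P.B → y = 1) :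
    P.B.relIndex (P.parabolic {s}) = Nat.card Y + 1 := by
  set Q := P.parabolic {s}
  have hB := B_le_parabolic P ({s} : Set G)
  let f : Option Y → ↥Q ⧸ P.B.subgroupOf Q := fun o => o.elim (QuotientGroup.mk 1) fun y =>
    QuotientGroup.mk ⟨(y : G) * s, mul_mem (hB (hY y.2)) (self_mem_parabolic P s)⟩
  have hf : Function.Bijective f := by
    refine ⟨?_, ?_⟩
    · rintro (_ | ⟨y, hy⟩) (_ | ⟨y', hy'⟩) he
      · rfl
      · have he' := mem_subgroupOf.1 (QuotientGroup.eq.1 he)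
        simp only [coe_mul, coe_inv, coe_one, inv_one, one_mul] at he'
        exact absurd ((P.B.mul_mem_cancel_left (hY hy')).1 he') (not_mem_B P hs)
      · have he' := mem_subgroupOf.1 (QuotientGroup.eq.1 he)
        simp only [coe_mul, coe_inv, coe_one, mul_one] at he'
        exact absurd ((P.B.mul_mem_cancel_left (hY hy)).1 (by simpa using inv_mem he')) (not_mem_B P hs)
      · have he' := mem_subgroupOf.1 (QuotientGroup.eq.1 he)
        simp only [coe_mul, coe_inv] at he'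
        have h1 := hinj (y⁻¹ * y') (mul_mem (inv_mem hy) hy') (by simpa [mul_assoc] using he')
        exact congrArg some (Subtype.ext (inv_mul_eq_one.1 h1))
    · intro q
      induction q using QuotientGroup.induction_on with
      | _ x =>
        rcases parabolic_cases P hs x.2 with hx | ⟨u, hu, v, hv, e⟩
        · refine ⟨none, QuotientGroup.eq.2 (mem_subgroupOf.2 ?_)⟩
          simpa using hx
        · obtain ⟨y, hy, hys⟩ := hdec u hu
          refine ⟨some ⟨y, hy⟩, QuotientGroup.eq.2 (mem_subgroupOf.2 ?_)⟩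
          show (y * s)⁻¹ * (x : G) ∈ P.B
          rw [e, show (y * s)⁻¹ * (u * s * v) = s⁻¹ * (y⁻¹ * u) * s * v by group]
          exact mul_mem hys hv
  rw [relIndex, index, ← Nat.card_congr (Equiv.ofBijective f hf), Finite.card_option]

/-- The shape for one node. -/
theorem shape_one {p : ℕ} (hS : P.S.ncard = 1) (h : Cfsg.IsLieRankOneChar p G) : Shape p G U :=
  Or.inl ⟨_, atoms P hU (Set.nonempty_of_ncard_ne_zero (by omega)),
    Or.inl ⟨(ncard_minPar P).trans hS, h⟩⟩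

/-- The shape for two nodes. -/
theorem shape_two {p : ℕ} (hS : P.S.ncard = 2) (h : p ≠ 2 ∨ Listed G) : Shape p G U :=
  Or.inl ⟨_, atoms P hU (Set.nonempty_of_ncard_ne_zero (by omega)),
    Or.inr (Or.inl ⟨(ncard_minPar P).trans hS, h⟩)⟩

/-- The shape without symmetric diagram. -/
theorem shape_asym {p : ℕ} (hS : P.S.Nonempty) (h : Asym U (minPar P)) : Shape p G U :=
  Or.inl ⟨_, atoms P hU hS, Or.inr (Or.inr h)⟩

omit hU in
/-- The image of a split Borel subgroup. -/
theorem split_map {H : Type*} [Group H] (hU : Split P U) (f : G →* H) (hf : Function.Surjective f)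
    (hk : f.ker ≤ P.B ⊓ P.N) : Split (SLPair.mapPair P f hf hk) (U.map f) where
  le := map_mono hU.le
  conj := by
    rintro _ ⟨b, hb, rfl⟩ _ ⟨u, hu, rfl⟩
    exact ⟨b * u * b⁻¹, hU.conj b hb u hu, by simp⟩
  decomp := by
    rintro _ ⟨b, hb, rfl⟩
    obtain ⟨u, hu, t, ht, rfl⟩ := hU.decomp b hb
    exact ⟨f u, ⟨u, hu, rfl⟩, f t, ⟨⟨t, ht.1, rfl⟩, ⟨t, ht.2, rfl⟩⟩, map_mul f u t⟩

omit hU in
theorem cm_map {H : Type*} [Group H] (f : G →* H) (hf : Function.Surjective f) (hk : f.ker ≤ P.B ⊓ P.N)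
    (s t : G) : Cm (SLPair.mapPair P f hf hk) (f s) (f t) ↔ Cm P s t := by
  unfold Cm
  rw [← map_mul, ← map_mul, ← map_inv, ← map_mul]
  refine ⟨?_, fun h => ⟨_, h, rfl⟩⟩
  rintro ⟨b, hb, e⟩
  have h1 : b⁻¹ * ((s * t)⁻¹ * (t * s)) ∈ f.ker := by
    rw [MonoidHom.mem_ker, map_mul, map_inv, e, inv_mul_cancel]
  simpa using P.B.mul_mem hb (hk h1).1

omit hU in
theorem map_injOn_S {H : Type*} [Group H] (f : G →* H) (hk : f.ker ≤ P.B ⊓ P.N) : Set.InjOn f P.S := by
  intro s hs t ht e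
  refine P.inj s hs t ht (hk ?_).1
  rw [MonoidHom.mem_ker, map_mul, map_inv, e, inv_mul_cancel]

omit hU in
theorem ncard_map_S {H : Type*} [Group H] (f : G →* H) (hf : Function.Surjective f)
    (hk : f.ker ≤ P.B ⊓ P.N) : (SLPair.mapPair P f hf hk).S.ncard = P.S.ncard :=
  Set.ncard_image_of_injOn (map_injOn_S P f hk)

omit hU in
theorem relIndex_map {H : Type*} [Group H] (f : G →* H) (hf : Function.Surjective f)
    (hk : f.ker ≤ P.B ⊓ P.N) (s : G) :
    (SLPair.mapPair P f hf hk).B.relIndex ((SLPair.mapPair P f hf hk).parabolic {f s}) =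
      P.B.relIndex (P.parabolic {s}) := by
  have e : (SLPair.mapPair P f hf hk).parabolic {f s} = (P.parabolic {s}).map f := by
    show P.B.map f ⊔ closure {f s} = (P.B ⊔ closure {s}).map f
    rw [Subgroup.map_sup, MonoidHom.map_closure, Set.image_singleton]
  rw [e]
  show (P.B.map f).relIndex _ = _
  rw [← relIndex_comap, comap_map_eq, sup_eq_left.2 (hk.trans inf_le_left)]

end Cfsg.Agent.PMinSocle
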