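import Cfsg.Agent.Lib.PMinSocle.Linear
import Cfsg.Agent.Lib.BorelTitsOver.Chev
import Cfsg.Agent.Lib.ChevAut.AutTypes
import Cfsg.Agent.Lib.ChevAut.AutData
import Cfsg.Prelude.Def_LieTypeChar

/-!
# The shape of the Chevalley groups
-/

set_option autoImplicit false
set_option linter.unusedSectionVars false
set_option maxRecDepth 8000
set_option maxHeartbeats 800000

namespace Cfsg.Agent.PMinSocle

open Cfsg.Lie Cfsg.Agent.Chev Cfsg.Agent.Chev.Tab Cfsg.Agent.ChevAut Cfsg.Agent.BN

section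

variable {T : Tab} {K : List (List ℕ)} {Ls : List Bool} {F : Type*} [Field F] [Fintype F]

theorem split_chev (g : T.GoodK K) :
    BTOver.Split (bnPair g.toGoodA F) ((genS g.toGood F (Set.Ico T.N T.n)).subgroupOf (T.D.group F)) where
  le := fun _ hx => Subgroup.mem_subgroupOf.2
    (genS_pos_le_borel g.toGood (fun _ hr => hr) (Subgroup.mem_subgroupOf.1 hx))
  conj := fun b hb u hu => by
    rw [Subgroup.mem_subgroupOf] at hu ⊢
    exact (Subgroup.mem_normalizer_iff.1
      (borel_normalizes g.toGood (Subgroup.mem_subgroupOf.1 hb)) _).1 hu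
  decomp := fun b hb => by
    have hg := g.toGood
    obtain ⟨u, hu, c, hc⟩ := (mem_borel_iff hg).1 (Subgroup.mem_subgroupOf.1 hb)
    have htG : tor T F c ∈ T.D.group F := borel_le_group hg (torus_le_borel hg c)
    exact ⟨⟨u, posU_le_group hg hu⟩, hu, ⟨tor T F c, htG⟩,
      ⟨Subgroup.mem_subgroupOf.2 (torus_le_borel hg c),
        Subgroup.mem_subgroupOf.2 (torus_le_monomial hg c)⟩, Subtype.ext hc⟩

/-- The representative of a node. -/
noncomputable def node (g : T.GoodA) (i : Fin T.l) : ↥(T.D.group F) :=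
  ⟨nG g.toGood F i, nG_mem_group g.toGood i⟩

theorem node_mem (g : T.GoodA) (i : Fin T.l) : node (F := F) g i ∈ (bnPair g F).S :=
  (mem_sSet_iff g.toGood).2 ⟨i, i.2, rfl⟩

theorem node_inj (g : T.GoodA) {i j : Fin T.l} (h : node (F := F) g i = node g j) : i = j := by
  refine Fin.ext (nG_eq_of_inv_mul_mem (F := F) g.toGood i.2 j.2 ?_)
  rw [show nG g.toGood F i = nG g.toGood F j from congrArg Subtype.val h, inv_mul_cancel]
  exact one_mem _

theorem ncard_S_chev (g : T.GoodA) : (bnPair g F).S.ncard = T.l := by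
  have e : (bnPair g F).S = Set.range (node (F := F) g) := by
    ext n
    constructor
    · intro hn
      obtain ⟨i, hi, e⟩ := (mem_sSet_iff g.toGood).1 hn
      exact ⟨⟨i, hi⟩, Subtype.ext e.symm⟩
    · rintro ⟨i, rfl⟩
      exact node_mem g i
  rw [e, Set.ncard_range_of_injective fun _ _ h => node_inj g h, Nat.card_eq_fintype_card, Fintype.card_fin]

theorem xe_neg_mem_parabolic (g : T.GoodA) (i : Fin T.l) (t : F) :
    xe g.toGood (T.neg (T.smp i)) t ∈ (bnPair g F).parabolic {node g i} := by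
  have hg := g.toGood
  have hpos : xe hg (T.smp i) ((T.eta i (T.smp i) : F) * t) ∈ (bnPair g F).B :=
    Subgroup.mem_subgroupOf.2 (genS_pos_le_borel (F := F) hg (S := Set.Ico T.N T.n) (fun _ hr => hr)
      (xg_mem_genS hg (S := Set.Ico T.N T.n) ⟨hg.smp_ge i.2, hg.smp_lt i.2⟩ _))
  have e : xe hg (T.neg (T.smp i)) t =
      node g i * xe hg (T.smp i) ((T.eta i (T.smp i) : F) * t) * (node g i)⁻¹ := by
    refine Subtype.ext ?_
    simp only [Subgroup.coe_mul, Subgroup.coe_inv, coe_xe, node]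
    rw [nG_conj hg i.2 (hg.smp_lt i.2), hg.ref_smp i.2, ← mul_assoc, eta_sq, one_mul]
  rw [e]
  exact mul_mem (mul_mem (subset_parabolic _ _ rfl) (B_le_parabolic _ _ hpos))
    (inv_mem (subset_parabolic _ _ rfl))

theorem xe_neg_not_borel (g : T.GoodA) (i : Fin T.l) {t : F} (ht : t ≠ 0) :
    xe g.toGood (T.neg (T.smp i)) t ∉ (bnPair g F).B := by
  intro h
  have hg := g.toGood
  have h1 := borel_inf_neg hg (Subgroup.mem_subgroupOf.1 h) (xg_mem_genS hg (S := Set.Iio T.N)
    ((neg_lt_N_iff (hg.smp_lt i.2)).2 (hg.smp_ge i.2)) t)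
  rw [← xg_zero hg (T.neg (T.smp i))] at h1
  exact ht (xg_injective hg (neg_lt (hg.smp_lt i.2)) h1)

theorem parabolic_inter (g : T.GoodA) {i j : Fin T.l} (hne : i ≠ j) {x : ↥(T.D.group F)}
    (hi : x ∈ (bnPair g F).parabolic {node g i}) (hj : x ∈ (bnPair g F).parabolic {node g j}) :
    x ∈ (bnPair g F).B := by
  set P := bnPair g F
  set M := P.parabolic {node g i} ⊓ P.parabolic {node g j}
  have hM := eq_parabolic P M (le_inf (B_le_parabolic P _) (B_le_parabolic P _))
  have he : {s | s ∈ P.S ∧ s ∈ M} = (∅ : Set _) := by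
    refine Set.eq_empty_of_forall_notMem fun s hs => hne ?_
    have h1 := (mem_parabolic_iff P (singleton_sub P (node_mem g i)) hs.1).1 hs.2.1
    have h2 := (mem_parabolic_iff P (singleton_sub P (node_mem g j)) hs.1).1 hs.2.2
    exact node_inj g ((Set.mem_singleton_iff.1 h1).symm.trans (Set.mem_singleton_iff.1 h2))
  have : x ∈ M := ⟨hi, hj⟩
  rw [hM, he] at this
  simpa [Cfsg.BNPair.parabolic] using this

theorem asym_chev (h : AutOK T K Ls)
    (hπ : ∃ i j : Fin T.l, ∀ θ : ↥(normAut h.good.toGood F), piHom h F θ i ≠ j) :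
    Asym ((genS h.good.toGood F (Set.Ico T.N T.n)).subgroupOf (T.D.group F))
      (minPar (bnPair h.good.toGoodA F)) := by
  set g := h.good
  set P := bnPair g.toGoodA F with hP
  obtain ⟨i, j, hij⟩ := hπ
  refine ⟨_, ⟨node g.toGoodA i, node_mem _ i, rfl⟩, _, ⟨node g.toGoodA j, node_mem _ j, rfl⟩,
    fun α hα he => ?_⟩
  have hSplit := split_chev (F := F) g
  set U := (genS g.toGood F (Set.Ico T.N T.n)).subgroupOf (T.D.group F) with hU
  have hmapsα : Maps α (genS g.toGood F (Set.Ico T.N T.n)) (genS g.toGood F (Set.Ico T.N T.n)) := by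
    intro y
    constructor
    · intro hy
      have : α y ∈ U := hα ▸ ⟨y, Subgroup.mem_subgroupOf.2 hy, rfl⟩
      exact Subgroup.mem_subgroupOf.1 this
    · intro hy
      have : α y ∈ U.map α.toMonoidHom := hα.symm ▸ (Subgroup.mem_subgroupOf.2 hy : α y ∈ U)
      obtain ⟨z, hz, e⟩ := this
      exact Subgroup.mem_subgroupOf.1 (α.injective e ▸ hz)
  obtain ⟨x, hx1, hx2⟩ := exists_conj_UV g α
  have hxB : x ∈ P.B := by
    rw [← normalizer_eq P hSplit, Subgroup.mem_normalizer_iff]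
    intro z
    obtain ⟨y, rfl⟩ := α.surjective z
    rw [hU, Subgroup.mem_subgroupOf, Subgroup.mem_subgroupOf]
    exact (hmapsα y).symm.trans (hx1 y)
  set θ : ↥(normAut g.toGood F) := ⟨MulAut.conj x * α, mem_normAut.2 ⟨hx1, hx2⟩⟩ with hθ
  obtain ⟨μ, σ, hstd, -⟩ := piHom_spec h θ
  have h1 := (hstd i 1).2
  rw [one_pow, map_one, mul_one] at h1
  -- the image lies in the image parabolic
  have hmem : θ.1 (xe g.toGood (T.neg (T.smp i)) 1) ∈ P.parabolic {node g.toGoodA j} := by
    show x * α (xe g.toGood (T.neg (T.smp i)) 1) * x⁻¹ ∈ _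
    have hxP := B_le_parabolic P {node g.toGoodA j} hxB
    replace he : (P.parabolic {node g.toGoodA i}).map α.toMonoidHom = P.parabolic {node g.toGoodA j} := he
    exact mul_mem (mul_mem hxP (he.le ⟨_, xe_neg_mem_parabolic g.toGoodA i 1, rfl⟩)) (inv_mem hxP)
  rw [h1] at hmem
  exact xe_neg_not_borel g.toGoodA _ (Units.ne_zero _)
    (parabolic_inter g.toGoodA (hij θ) (xe_neg_mem_parabolic g.toGoodA _ _) hmem)

/-- Some node cannot go to some other under any symmetry of the diagram. -/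
def checkAsym (T : Tab) (i j : ℕ) : Bool := (symList T T.l).all fun M => M.getD i 0 != j

theorem asym_of_check (h : AutOK T K Ls) {i j : ℕ} (hi : i < T.l) (hj : j < T.l)
    (hc : checkAsym T i j = true) :
    ∃ a b : Fin T.l, ∀ θ : ↥(normAut h.good.toGood F), piHom h F θ a ≠ b := by
  refine ⟨⟨i, hi⟩, ⟨j, hj⟩, fun θ he => ?_⟩
  obtain ⟨μ, σ, -, hb⟩ := piHom_spec h θ
  have h1 := List.all_eq_true.1 hc _ (permList_mem _ hb _ le_rfl)
  simp only [bne_iff_ne, ne_eq] at h1
  apply h1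
  simp [permList, List.getD_eq_getElem?_getD, hi, he]

end

variable {L : Type*} [Group L] {F : Type} [Field F] [Fintype F] {p : ℕ} [Fact p.Prime] [CharP F p]

theorem shape_chev {T : Tab} {K : List (List ℕ)} {Ls : List Bool} (h : AutOK T K Ls)
    {D : ChevalleyDatum} (hD : T.D = D) (e : L ≃* ↥(D.group F)) (hl : 0 < T.l)
    (hc : (T.l = 2 ∧ p ≠ 2) ∨ ∃ a b : Fin T.l, ∀ θ : ↥(normAut h.good.toGood F), piHom h F θ a ≠ b)
    (U : Sylow p L) : Shape p L (U : Subgroup L) := by
  subst hD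
  haveI : Finite L := Finite.of_equiv _ e.symm.toEquiv
  obtain ⟨S, hS⟩ := exists_sylow_posU (F := F) h.good.toGoodA p
  rw [posUnipotent_eq h.good.toGood] at hS
  refine Shape.sylow e.symm S ?_ U
  rw [hS]
  have hsp := split_chev (F := F) h.good
  rcases hc with ⟨hl2, hp⟩ | hπ
  · exact shape_two _ hsp ((ncard_S_chev h.good.toGoodA).trans hl2) (Or.inl hp)
  · exact shape_asym _ hsp ⟨_, node_mem h.good.toGoodA ⟨0, hl⟩⟩ (asym_chev h hπ)

theorem good_exceptional (h : Cfsg.IsExceptionalChevChar p L) (U : Sylow p L) :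
    Shape p L (U : Subgroup L) := by
  obtain ⟨F, _, _, _, h⟩ := h
  rcases h with ⟨h3, ⟨e⟩⟩ | ⟨⟨e⟩⟩ | ⟨⟨e⟩⟩ | ⟨⟨e⟩⟩ | ⟨⟨e⟩⟩
  · refine shape_chev autOK_G2 rfl e (by decide) ?_ U
    by_cases hp : p = 2
    · subst hp
      refine Or.inr ⟨⟨0, by decide⟩, ⟨1, by decide⟩, fun θ hθ => ?_⟩
      have h1 : piHom autOK_G2 F θ ⟨1, by decide⟩ = ⟨0, by decide⟩ := by
        have h2 : ∀ z : Fin G2Data.tab.l, z ≠ ⟨1, by decide⟩ → z = ⟨0, by decide⟩ := by decide
        refine h2 _ fun e1 => ?_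
        exact absurd ((piHom autOK_G2 F θ).injective (e1.trans hθ.symm)) (by decide)
      have := char_of_flip autOK_G2 θ 2 (i := (⟨1, by decide⟩ : Fin G2Data.tab.l))
        (j := (⟨0, by decide⟩ : Fin G2Data.tab.l)) (k := 3) (Or.inr rfl) (by decide +kernel)
        (by rw [hθ, h1]; decide +kernel) (Or.inr (by rwa [Nat.card_eq_fintype_card]))
      omega
    · exact Or.inl ⟨rfl, hp⟩
  · exact shape_chev autOK_F4 rfl e (by decide)
      (Or.inr (asym_of_check autOK_F4 (i := 0) (j := 1) (by decide) (by decide) (by decide +kernel))) U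
  · exact shape_chev autOK_E6 rfl e (by decide)
      (Or.inr (asym_of_check autOK_E6 (i := 0) (j := 3) (by decide) (by decide) (by decide +kernel))) U
  · exact shape_chev autOK_E7 rfl e (by decide)
      (Or.inr (asym_of_check autOK_E7 (i := 0) (j := 1) (by decide) (by decide) (by decide +kernel))) U
  · exact shape_chev autOK_E8 rfl e (by decide)
      (Or.inr (asym_of_check autOK_E8 (i := 0) (j := 1) (by decide) (by decide) (by decide +kernel))) U

end Cfsg.Agent.PMinSocle
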