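import Cfsg.Agent.Lib.PMinSocle.UnitaryRoot
import Cfsg.Prelude.Def_LieTypeChar
import Cfsg.Agent.S2545
import Cfsg.Agent.S2546
import Cfsg.Agent.S2547
import Cfsg.Agent.S2548
import Cfsg.Agent.S2549

/-!
# The shape of the classical groups
-/

set_option autoImplicit false
set_option linter.unusedSectionVars false
set_option maxHeartbeats 800000

namespace Cfsg.Agent.PMinSocle

open Matrix Cfsg.Agent.SLPair
open Cfsg.Agent.SLBlocks (uniU isPGroup_uniU)

variable {K : Type*} [Group K] {F : Type} [Field F] [Fintype F] {p : ℕ} [Fact p.Prime] [CharP F p]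

section Sp

open Cfsg.Agent.S2545

theorem good_psp {m : ℕ} (hm : 2 ≤ m) (h2 : m = 2 → 3 ≤ Fintype.card F) (g : K ≃* Cfsg.PSp m F)
    (U : Sylow p K) : Shape p K (U : Subgroup K) := by
  classical
  obtain ⟨hη, hsk⟩ : (∀ a : Fin (m + m), sgnV m F a.rev = (-1 : F) * sgnV m F a) ∧
      (∀ a : Fin (m + m), ∃ t : F, t ≠ 0 ∧ -((sgnV m F a.rev)⁻¹ * RingHom.id F t * sgnV m F a) = t) := by
    have h : ∀ a : Fin (m + m), sgnV m F a.rev = (-1 : F) * sgnV m F a := fun a => by
      have := a.2
      simp only [sgnV, Fin.val_rev]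
      split_ifs <;> first | omega | simp
    refine ⟨h, fun a => ⟨1, one_ne_zero, ?_⟩⟩
    rw [h a]
    simp only [sgnV]
    split_ifs <;> simp
  have he : ∀ a : Fin (m + m), sgnV m F a ≠ 0 := fun a => by
    simp only [sgnV]; split_ifs <;> simp
  let T : Twist (m + m) F := formTwist (sgnV m F) he (RingHom.id F) (-1) hη (fun a => rfl) hsk
  have hmem : ∀ g : Matrix.SpecialLinearGroup (Fin (m + m)) F,
      g ∈ T.G ↔ g.1.submatrix (idx m) (idx m) ∈ Matrix.symplecticGroup (Fin m) F := fun g => by
    refine (mem_formTwist (sgnV m F) he (RingHom.id F) (-1) hη (fun a => rfl) (fun a => rfl) hsk g).trans ?_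
    rw [SymplecticGroup.mem_iff', ← J_reindex, show g.1.map (RingHom.id F) = g.1 from rfl]
    constructor
    · intro h
      have := congrArg (fun M : Matrix (Fin (m + m)) (Fin (m + m)) F => M.submatrix (idx m) (idx m)) h
      simpa [← Matrix.submatrix_mul_equiv _ _ (idx m) (idx m) (idx m)] using this
    · intro h
      have := congrArg (fun M => Matrix.submatrix M (idx m).symm (idx m).symm) h
      simpa [← Matrix.submatrix_mul_equiv _ _ (idx m).symm (idx m).symm (idx m).symm] using this
  let e : T.G ≃* Matrix.symplecticGroup (Fin m) F :=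
    { toFun := fun g => ⟨g.1.1.submatrix (idx m) (idx m), (hmem g.1).1 g.2⟩
      invFun := fun s => ⟨⟨s.1.submatrix (idx m).symm (idx m).symm, by
          rw [Matrix.det_submatrix_equiv_self]; exact SymplecticGroup.det_eq_one s.2⟩, (hmem _).2 (by simp)⟩
      left_inv := fun g => by
        apply Subtype.ext; apply Subtype.ext
        simp
      right_inv := fun s => by
        apply Subtype.ext
        simp
      map_mul' := fun g h => Subtype.ext (Matrix.submatrix_mul_equiv g.1.1 h.1.1 (idx m) (idx m) (idx m)).symm }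
  refine shape_twist T e g ?_ U
  rcases (show m = 2 ∨ 3 ≤ m by omega) with rfl | h3
  · refine Or.inr (Or.inl ⟨ncard_S_twist T, ?_⟩)
    by_cases hp : p = 2
    · subst hp
      refine Or.inr (Or.inr (Or.inl ⟨F, inferInstance, inferInstance, inferInstance, ?_, ⟨g⟩⟩))
      obtain ⟨j, -, hj⟩ := FiniteField.card F 2
      have h3 := h2 rfl
      rw [hj] at h3 ⊢
      rcases (show (j : ℕ) = 1 ∨ 2 ≤ (j : ℕ) from by have := j.pos; omega) with h1 | h1
      · rw [h1] at h3; norm_num at h3
      · calc 4 = 2 ^ 2 := by norm_num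
          _ ≤ _ := Nat.pow_le_pow_right (by norm_num) h1
    · exact Or.inl hp
  · exact Or.inr (Or.inr (Or.inl (valence_twist T (by omega))))

end Sp

section SU

open Cfsg.Agent.S2546 Cfsg.Agent.LBUnitary

theorem good_psu {n q : ℕ} (hF : Fintype.card F = q ^ 2) (hn : 3 ≤ n) (hex : ¬ (n = 3 ∧ q = 2))
    (g : K ≃* Cfsg.PSU n F q) (U : Sylow p K) : Shape p K (U : Subgroup K) := by
  classical
  obtain ⟨k, -, hk⟩ : ∃ k, k ≤ _ ∧ q = p ^ k := (Nat.dvd_prime_pow (Fact.out : p.Prime)).1
    (show q ∣ p ^ _ from ((dvd_mul_right q q).trans (dvd_of_eq (sq q ▸ hF).symm)).trans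
      (dvd_of_eq (FiniteField.card F p).choose_spec.2))
  obtain ⟨σ, hσ⟩ : ∃ σ : F →+* F, ∀ x, σ x = x ^ q :=
    ⟨iterateFrobenius F p k, fun x => by rw [iterateFrobenius_def, hk]⟩
  have hinv : ∀ a, σ (σ a) = a := fun a => by
    rw [hσ, hσ, ← pow_mul, ← sq, ← hF, FiniteField.pow_card]
  have hq2 : 2 ≤ q := by
    rcases q with - | - | q
    · have := Fintype.one_lt_card (α := F); simp [hF] at this
    · have := Fintype.one_lt_card (α := F); simp [hF] at this
    · omega
  obtain ⟨a₀, ha₀⟩ : ∃ a, σ a ≠ a := by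
    by_contra hcon
    push Not at hcon
    have hsub : (Finset.univ : Finset F).card ≤ (Polynomial.X ^ q - Polynomial.X : Polynomial F).natDegree := by
      refine Polynomial.card_le_degree_of_subset_roots (fun x _ => ?_)
      rw [Polynomial.mem_roots (FiniteField.X_pow_card_sub_X_ne_zero F hq2)]
      simp [← hσ, hcon x]
    rw [Finset.card_univ, hF, FiniteField.X_pow_card_sub_X_natDegree_eq F hq2] at hsub
    nlinarith [hsub]
  have hne : σ ≠ RingHom.id F := fun h => ha₀ (by rw [h]; rfl)
  obtain ⟨C, hC⟩ := exists_sqrt hne hinv (n := n) (H := antiJ (fun _ => (1 : F))) (by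
    have h : antiJ (fun _ : Fin n => (1 : F)) = (1 : Matrix (Fin n) (Fin n) F).submatrix Fin.revPerm id := by
      ext a b
      simp [antiJ, Matrix.one_apply, eq_comm]
    rw [h, Matrix.det_permute, Matrix.det_one, mul_one]
    rcases Int.units_eq_one_or (Equiv.Perm.sign (Fin.revPerm : Equiv.Perm (Fin n))) with h | h <;> simp [h]) (by
    ext a b
    simp only [star', antiJ, Matrix.transpose_apply, Matrix.map_apply, Matrix.of_apply, apply_ite σ, map_one,
      map_zero]
    refine ite_congr ?_ (fun _ => rfl) (fun _ => rfl)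
    exact propext ⟨fun h => by rw [h, Fin.rev_rev], fun h => by rw [h, Fin.rev_rev]⟩)
  let T : Twist n F := formTwist (fun _ => (1 : F)) (fun _ => one_ne_zero) σ 1 (fun a => (one_mul 1).symm)
    (fun a => map_one σ) (fun a => ⟨a₀ - σ a₀, sub_ne_zero.2 (Ne.symm ha₀), by
      rw [map_sub, hinv]; simp⟩)
  have hmem : ∀ g : Matrix.SpecialLinearGroup (Fin n) F,
      g ∈ T.G ↔ SLBlocks.cj C g ∈ Cfsg.SU n F q := fun g => by
    refine (mem_formTwist _ _ σ 1 _ hinv (fun a => map_one σ) _ g).trans ?_
    have hgu : SLBlocks.cj C g ∈ Cfsg.SU n F q ↔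
        Matrix.SpecialLinearGroup.toGL (SLBlocks.cj C g) ∈ Cfsg.GU n F q := Iff.rfl
    rw [hgu, mem_GU hσ hinv]
    show _ ↔ star' σ (C.1 * g.1 * (C⁻¹).1) * (C.1 * g.1 * (C⁻¹).1) = 1
    rw [← hC]
    have h1 : star' σ (C⁻¹).1 * star' σ C.1 = 1 := by rw [← LBUnitary.star_mul', Units.mul_inv, star_one']
    have h2 : star' σ C.1 * star' σ (C⁻¹).1 = 1 := by rw [← LBUnitary.star_mul', Units.inv_mul, star_one']
    constructor
    · intro h
      calc star' σ (C.1 * g.1 * (C⁻¹).1) * (C.1 * g.1 * (C⁻¹).1)
          = star' σ (C⁻¹).1 * (star' σ g.1 * (star' σ C.1 * C.1) * g.1) * (C⁻¹).1 := by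
            simp only [LBUnitary.star_mul', Matrix.mul_assoc]
        _ = star' σ (C⁻¹).1 * (star' σ C.1 * C.1) * (C⁻¹).1 := by rw [show star' σ g.1 * (star' σ C.1 * C.1) * g.1 = _ from h]
        _ = (star' σ (C⁻¹).1 * star' σ C.1) * (C.1 * (C⁻¹).1) := by simp only [Matrix.mul_assoc]
        _ = 1 := by rw [h1, Units.mul_inv, one_mul]
    · intro h
      show star' σ g.1 * (star' σ C.1 * C.1) * g.1 = star' σ C.1 * C.1
      calc star' σ g.1 * (star' σ C.1 * C.1) * g.1
          = (star' σ C.1 * star' σ (C⁻¹).1) * (star' σ g.1 * (star' σ C.1 * C.1) * g.1) * ((C⁻¹).1 * C.1) := by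
            rw [h2, Units.inv_mul, one_mul, mul_one]
        _ = star' σ C.1 * (star' σ (C.1 * g.1 * (C⁻¹).1) * (C.1 * g.1 * (C⁻¹).1)) * C.1 := by
            simp only [LBUnitary.star_mul', Matrix.mul_assoc]
        _ = star' σ C.1 * C.1 := by rw [h, mul_one]
  let e : T.G ≃* Cfsg.SU n F q :=
    { toFun := fun g => ⟨SLBlocks.cj C g, (hmem g).1 g.2⟩
      invFun := fun s => ⟨(SLBlocks.cj C).symm s, (hmem _).2 (by rw [MulEquiv.apply_symm_apply]; exact s.2)⟩
      left_inv := fun g => Subtype.ext ((SLBlocks.cj C).symm_apply_apply _)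
      right_inv := fun s => Subtype.ext ((SLBlocks.cj C).apply_symm_apply _)
      map_mul' := fun g h => Subtype.ext (map_mul (SLBlocks.cj C) _ _) }
  refine shape_twist T e g ?_ U
  rcases (show n = 3 ∨ (n = 4 ∨ n = 5) ∨ 6 ≤ n by omega) with rfl | h45 | h6
  · exact Or.inl ⟨ncard_S_twist T, Or.inr (Or.inl ⟨F, inferInstance, inferInstance, inferInstance, q, hF,
      fun h => hex ⟨rfl, h⟩, ⟨g⟩⟩)⟩
  · by_cases hp : p = 2
    · subst hp
      have hT : ∀ g : SLn n F, g ∈ T.G ↔ HermEq σ g.1 :=
        fun g => mem_formTwist _ _ σ 1 _ hinv (fun a => map_one σ) _ g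
      rcases h45 with rfl | rfl
      · refine Or.inr (Or.inr (Or.inr ⟨_, ⟨⟨1, by norm_num⟩, rfl⟩, _, ⟨⟨0, by norm_num⟩, rfl⟩, ?_⟩))
        rw [relIndex_twist, relIndex_twist]
        have := card_rootY_four σ T hT hinv ⟨a₀, ha₀⟩
        omega
      · refine Or.inr (Or.inr (Or.inr ⟨_, ⟨⟨1, by norm_num⟩, rfl⟩, _, ⟨⟨0, by norm_num⟩, rfl⟩, ?_⟩))
        rw [relIndex_twist, relIndex_twist]
        have := card_rootY_five σ T hT hinv ⟨a₀, ha₀⟩
        omega
    · refine Or.inr (Or.inl ⟨(ncard_S_twist T).trans ?_, Or.inl hp⟩)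
      omega
  · exact Or.inr (Or.inr (Or.inl (valence_twist T h6)))

end SU

section OmegaOdd

open Cfsg.Agent.S2547

theorem good_omega_odd {m : ℕ} (hm3 : 3 ≤ m) (hodd : Odd (Fintype.card F))
    (g : K ≃* Cfsg.POmega F (Cfsg.quadFormOdd m F)) (U : Sylow p K) : Shape p K (U : Subgroup K) := by
  classical
  have hm : 1 ≤ m := by omega
  have hp2 : p ≠ 2 := by
    rintro rfl
    have := FiniteField.even_card_of_char_two (F := F) (ringChar.eq F 2)
    rw [Nat.odd_iff] at hodd; omega
  have h2 : (2 : F) ≠ 0 := Ring.two_ne_zero (by rwa [ringChar.eq F p])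
  have he : ∀ k, polV m F k ≠ 0 := fun k => by
    simp only [polV]; split_ifs <;> first | exact h2 | exact one_ne_zero
  let Q := Orth.qOdd F m
  let O := Cfsg.isometryGroup F (Cfsg.quadFormOdd m F)
  let det₁ : O →* Fˣ := Matrix.GeneralLinearGroup.det.comp O.subtype
  let ι : Cfsg.Omega F (Cfsg.quadFormOdd m F) →* SLn (2 * m + 1) F :=
    MonoidHom.mk' (fun o => ⟨o.1.1.1.submatrix (idxOdd m).symm (idxOdd m).symm, by
      rw [Matrix.det_submatrix_equiv_self]
      exact congrArg Units.val (show det₁ o.1 = 1 from Abelianization.commutator_subset_ker det₁ o.2)⟩)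
      (fun a b => Subtype.ext (Matrix.submatrix_mul_equiv a.1.1.1 b.1.1.1 _ (idxOdd m).symm _).symm)
  have hι : Function.Injective ι := fun a b h => by
    refine Subtype.ext (Subtype.ext (Units.ext (Matrix.ext fun x y => ?_)))
    have h1 : a.1.1.1.submatrix (idxOdd m).symm (idxOdd m).symm = b.1.1.1.submatrix (idxOdd m).symm (idxOdd m).symm :=
      congrArg Subtype.val h
    simpa using congrFun (congrFun h1 (idxOdd m x)) (idxOdd m y)
  have hiff : ∀ g : SLn (2 * m + 1) F, twHom (polV m F) he (RingHom.id F) g = g ↔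
      g.1.transpose * antiJ (polV m F) * g.1 = antiJ (polV m F) := fun g => by
    rw [tw_fixed_iff (polV m F) he (RingHom.id F) (fun _ => rfl) (fun _ => rfl) g]
    rw [show g.1.map (RingHom.id F) = g.1 from rfl]
  have hfix : ∀ g ∈ ι.range, twHom (polV m F) he (RingHom.id F) g = g := by
    rintro _ ⟨o, rfl⟩
    refine (hiff _).2 ?_
    have hJ : antiJ (polV m F) =
        ((antiJ (polV m F)).submatrix (idxOdd m) (idxOdd m)).submatrix (idxOdd m).symm (idxOdd m).symm := by
      ext a b; simp
    show (o.1.1.1.submatrix (idxOdd m).symm (idxOdd m).symm).transpose * antiJ (polV m F) *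
      o.1.1.1.submatrix (idxOdd m).symm (idxOdd m).symm = antiJ (polV m F)
    conv_lhs => rw [hJ, Matrix.transpose_submatrix, Matrix.submatrix_mul_equiv, Matrix.submatrix_mul_equiv,
      (mem_iso_iff h2 o.1.1).1 o.1.2]
    exact hJ.symm
  have hpel : ∀ g : SLn (2 * m + 1) F, twHom (polV m F) he (RingHom.id F) g = g → (∃ k, g ^ p ^ k = 1) → g ∈ ι.range := by
    rintro g hg ⟨k, hk⟩
    obtain ⟨x, hx⟩ : ∃ x : GL (Unit ⊕ (Fin m ⊕ Fin m)) F, x.1 = g.1.submatrix (idxOdd m) (idxOdd m) :=
      ⟨Matrix.GeneralLinearGroup.mkOfDetNeZero (g.1.submatrix (idxOdd m) (idxOdd m))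
        (by rw [Matrix.det_submatrix_equiv_self, g.2]; exact one_ne_zero), rfl⟩
    have hxO : x ∈ O := (mem_iso_iff h2 x).2 (by
      rw [hx]
      rw [Matrix.transpose_submatrix, Matrix.submatrix_mul_equiv, Matrix.submatrix_mul_equiv, (hiff g).1 hg])
    have hxk : (⟨x, hxO⟩ : O) ^ p ^ k = 1 := by
      refine Subtype.ext (Units.ext ?_)
      show x.1 ^ p ^ k = 1
      have hpow : ∀ j : ℕ, (g.1.submatrix (idxOdd m) (idxOdd m)) ^ j = (g.1 ^ j).submatrix (idxOdd m) (idxOdd m) := fun j => by
        induction j with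
        | zero => simp
        | succ j ih => rw [pow_succ, pow_succ, ih, Matrix.submatrix_mul_equiv]
      rw [hx, hpow, show g.1 ^ p ^ k = 1 from congrArg Subtype.val hk, Matrix.submatrix_one_equiv]
    have hmem : (⟨x, hxO⟩ : O) ∈ Cfsg.Omega F (Cfsg.quadFormOdd m F) := by
      rw [← QuotientGroup.eq_one_iff, ← orderOf_eq_one_iff]
      refine Nat.eq_one_of_dvd_coprimes (a := p ^ k) (b := 4) ?_ ?_ ?_
      · rw [show (4 : ℕ) = 2 ^ 2 by norm_num]
        exact ((Nat.coprime_primes Fact.out Nat.prime_two).2 hp2).pow _ _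
      · refine orderOf_dvd_of_pow_eq_one ?_
        rw [← QuotientGroup.mk_pow, hxk, QuotientGroup.mk_one]
      · have hi : (Cfsg.Omega F (Cfsg.quadFormOdd m F)).index = 4 := by
          have hodd' : Fintype.card F ≠ 2 := by rw [Nat.odd_iff] at hodd; omega
          rw [← Orth.coe_qOdd, Orth.omega_index Q (Orth.qOdd_nondeg h2 m) (by simp; omega) (Or.inl hodd'),
            (Orth.card_spinVal (F := F)).1 h2]
        rw [← hi, Subgroup.index_eq_card]
        exact orderOf_dvd_natCard _
    refine ⟨⟨_, hmem⟩, Subtype.ext ?_⟩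
    show x.1.submatrix (idxOdd m).symm (idxOdd m).symm = g.1
    rw [hx]; simp
  let T : Twist (2 * m + 1) F :=
    { τ := twHom (polV m F) he (RingHom.id F)
      uni := tw_uni (polV m F) he (RingHom.id F)
      low := tw_low (polV m F) he (RingHom.id F)
      mono := tw_mono (polV m F) he (RingHom.id F)
      root := fun i => by
        by_cases hov : 2 * m + 1 ≤ 2 * (i : ℕ) + 3
        · have hi := i.2
          let q : Fin (2 * m + 1) := ⟨i, by omega⟩
          let md : Fin (2 * m + 1) := ⟨m, by omega⟩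
          have hmd : md.rev = md := Fin.ext (by simp only [Fin.val_rev, md]; omega)
          have hmq : md ≠ q := fun h => by have := congrArg Fin.val h; simp only [md, q] at this; omega
          have hpm : q.rev ≠ md := fun h => by
            have := congrArg Fin.val h; rw [Fin.val_rev] at this; simp only [md, q] at this; omega
          have hpq : q.rev ≠ q := fun h => by
            have := congrArg Fin.val h; rw [Fin.val_rev] at this; simp only [q] at this; omega
          have hlo : ∀ {a b : Fin (2 * m + 1)} (h : a ≠ b) (t : F), b < a → xSL h t ∈ loU (2 * m + 1) F := by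
            intro a b h t hlt
            refine mem_loU.2 ⟨fun x y hxy => ?_, fun x => ?_⟩
            · show transvection a b t x y = 0
              rw [transvection, Matrix.add_apply, Matrix.one_apply_ne hxy.ne, zero_add, Matrix.single_apply_of_ne]
              rintro ⟨rfl, rfl⟩
              exact lt_asymm hxy hlt
            · show transvection a b t x x = 1
              rw [transvection, Matrix.add_apply, Matrix.one_apply_eq, Matrix.single_apply_of_ne, add_zero]
              rintro ⟨rfl, e0⟩
              exact h e0.symm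
          refine ⟨xSL hmq (1 : F) * xSL hpm (-2) * xSL hpq (-1), mul_mem (mul_mem
            (hlo hmq _ (by rw [Fin.lt_def]; simp only [md, q]; omega))
            (hlo hpm _ (by rw [Fin.lt_def, Fin.val_rev]; simp only [md, q]; omega)))
            (hlo hpq _ (by rw [Fin.lt_def, Fin.val_rev]; simp only [q]; omega)), ?_, ?_, ?_⟩
          · have h1 : q.rev ≠ md.rev := by rw [hmd]; exact hpm
            have h2' : md.rev ≠ q.rev.rev := by rw [hmd, Fin.rev_rev]; exact hmq
            have h3 : q.rev ≠ q.rev.rev := by rw [Fin.rev_rev]; exact hpq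
            rw [map_mul, map_mul, twHom_xSL (polV m F) he _ hmq h1, twHom_xSL (polV m F) he _ hpm h2',
              twHom_xSL (polV m F) he _ hpq h3]
            have eq1 : polV m F q = 1 := by simp only [polV, q]; rw [if_neg]; omega
            have eq2 : polV m F md = 2 := by simp [polV, md]
            have eq3 : polV m F q.rev = 1 := by rw [polV_rev, eq1, one_mul]
            apply Subtype.ext
            show transvection q.rev md.rev _ * transvection md.rev q.rev.rev _ * transvection q.rev q.rev.rev _ =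
              transvection md q (1 : F) * transvection q.rev md (-2) * transvection q.rev q (-1)
            rw [Fin.rev_rev, hmd, eq1, eq2, eq3]
            simp only [RingHom.id_apply, inv_one, one_mul, mul_one, neg_neg, mul_neg, neg_mul]
            rw [inv_mul_cancel₀ h2]
            simp [transvection, Matrix.mul_add, Matrix.add_mul, hmq, hpm, hpq, hmq.symm, hpm.symm, hpq.symm]
            ext a b
            simp only [Matrix.add_apply, Matrix.single_apply, Matrix.neg_apply]
            split_ifs <;> ring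
          · intro h
            have h1 : (transvection md q (1 : F) * transvection q.rev md (-2) * transvection q.rev q (-1) : Matrix (Fin (2 * m + 1)) (Fin (2 * m + 1)) F) md q =
                (1 : Matrix (Fin (2 * m + 1)) (Fin (2 * m + 1)) F) md q :=
              congrFun (congrFun (congrArg Subtype.val h) md) q
            simp [transvection, Matrix.mul_add, Matrix.add_mul, Matrix.one_apply, hmq, hpm, hpq, hmq.symm, hpm.symm,
              hpq.symm, Matrix.single_apply] at h1
          · intro a b hab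
            by_contra hne
            refine hab ?_
            show (transvection md q (1 : F) * transvection q.rev md (-2) * transvection q.rev q (-1) : Matrix (Fin (2 * m + 1)) (Fin (2 * m + 1)) F) a b = 0
            have hb1 : blk i md = blk i q := by
              simp only [blk, blkN, md, q]; split_ifs <;> omega
            have hb2 : blk i q.rev = blk i q := by
              simp only [blk, blkN, Fin.val_rev, q]; split_ifs <;> omega
            have hn1 : ¬ (md = a ∧ q = b) := fun ⟨x, y⟩ => hne (by rw [← x, ← y, hb1])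
            have hn2 : ¬ (q.rev = a ∧ md = b) := fun ⟨x, y⟩ => hne (by rw [← x, ← y, hb1, hb2])
            have hn3 : ¬ (q.rev = a ∧ q = b) := fun ⟨x, y⟩ => hne (by rw [← x, ← y, hb2])
            simp [transvection, Matrix.mul_add, Matrix.add_mul, hmq, hpm, hpq, hmq.symm, hpm.symm, hpq.symm,
              Matrix.one_apply_ne (fun e0 : a = b => hne (by rw [e0])), Matrix.single_apply, hn1, hn2, hn3]
        · exact tw_root (polV m F) he (RingHom.id F) 1 polV_rev (fun _ => rfl) i (fun h => absurd h hov)
      G := ι.range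
      fixed := hfix
      memU := fun g hg hf => hpel g hf (by
        obtain ⟨k, hk⟩ := isPGroup_uniU p ⟨g, hg⟩
        exact ⟨k, congrArg Subtype.val hk⟩)
      memL := fun g hg hf => hpel g hf (lo_pow p hg) }
  exact shape_twist T (MonoidHom.ofInjective hι).symm g
    (Or.inr (Or.inr (Or.inl (valence_twist T (by omega))))) U

end OmegaOdd

end Cfsg.Agent.PMinSocle
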