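import Mathlib.GroupTheory.Sylow
import Mathlib.GroupTheory.PGroup
import Cfsg.Prelude.Def_EvenType
import Cfsg.Prelude.Def_AlmostLie
import Cfsg.Prelude.Def_LocalEven

/-!
# `p`-minimal groups with a socle in `Chev(p)`: the group-theoretic core

For a group `K` with Sylow subgroup `U`, the minimal overgroups ("atoms") of `N_K(U)` are permuted by the
`p`-elements normalising `U` in a group `X` with socle `K`, and `p`-minimality makes this action transitive.
-/

set_option autoImplicit false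
set_option linter.unusedSectionVars false
set_option maxHeartbeats 400000

namespace Cfsg.Agent.PMinSocle

open Subgroup

section Atoms

variable {K : Type*} [Group K]

/-- `A` is the set of atoms above the normaliser of `U`; the subgroups above it form a Boolean lattice. -/
structure Atoms (U : Subgroup K) (A : Set (Subgroup K)) : Prop where
  nonempty : A.Nonempty
  lt : ∀ P ∈ A, normalizer (U : Set K) < P
  atom : ∀ M : Subgroup K, normalizer (U : Set K) < M → ∃ P ∈ A, P ≤ M
  top : ∀ M : Subgroup K, normalizer (U : Set K) ≤ M → (∀ P ∈ A, P ≤ M) → M = ⊤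
  proper : ∀ J, J ⊆ A → J ≠ A → normalizer (U : Set K) ⊔ sSup J ≠ ⊤
  anti : ∀ P ∈ A, ∀ Q ∈ A, P ≤ Q → P = Q

/-- Two atoms which no automorphism fixing `U` exchanges. -/
def Asym (U : Subgroup K) (A : Set (Subgroup K)) : Prop :=
  ∃ P ∈ A, ∃ Q ∈ A, ∀ α : MulAut K, U.map α.toMonoidHom = U → P.map α.toMonoidHom ≠ Q

/-- Proper subgroups over `U`, generating, each invariant under the automorphisms fixing `U`. -/
def Rigid (U : Subgroup K) : Prop :=
  normalizer (U : Set K) ≠ ⊤ ∧ ∃ A : Set (Subgroup K), sSup A = ⊤ ∧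
    ∀ P ∈ A, P ≠ ⊤ ∧ U ≤ P ∧ ∀ α : MulAut K, U.map α.toMonoidHom = U → P.map α.toMonoidHom = P

/-- The two-node groups of the conclusion. -/
def Listed (K : Type*) [Group K] : Prop :=
  (∃ (F : Type) (_ : Field F) (_ : Fintype F) (_ : CharP F 2),
      Nonempty (K ≃* Matrix.ProjectiveSpecialLinearGroup (Fin 3) F)) ∨
    (∃ (F : Type) (_ : Field F) (_ : Fintype F) (_ : CharP F 2), 4 ≤ Fintype.card F ∧
      Nonempty (K ≃* Cfsg.PSp 2 F)) ∨
    Nonempty (K ≃* ↥(alternatingGroup (Fin 6)))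

/-- What has to be known of a simple group in `Chev(p)`. -/
def Shape (p : ℕ) (K : Type*) [Group K] (U : Subgroup K) : Prop :=
  (∃ A, Atoms U A ∧ ((A.ncard = 1 ∧ Cfsg.IsLieRankOneChar p K) ∨
    (A.ncard = 2 ∧ (p ≠ 2 ∨ Listed K)) ∨ Asym U A)) ∨ Rigid U

variable {U : Subgroup K} {A : Set (Subgroup K)}

theorem map_normalizer (α : MulAut K) (h : U.map α.toMonoidHom = U) :
    (normalizer (U : Set K)).map α.toMonoidHom = normalizer (U : Set K) := by
  conv_rhs => rw [← h]
  exact map_equiv_normalizer_eq U α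

theorem map_symm_eq (α : MulAut K) {P Q : Subgroup K} (h : P.map α.toMonoidHom = Q) :
    Q.map α⁻¹.toMonoidHom = P := by
  rw [← h, map_map]
  convert map_id P using 2
  ext x
  simp [MulAut.inv_def]

/-- Automorphisms fixing `U` permute the atoms. -/
theorem Atoms.map_mem (hA : Atoms U A) (α : MulAut K) (h : U.map α.toMonoidHom = U) {P : Subgroup K}
    (hP : P ∈ A) : P.map α.toMonoidHom ∈ A := by
  have hN := map_normalizer α h
  have hlt : normalizer (U : Set K) < P.map α.toMonoidHom := by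
    rw [← hN]
    exact (map_lt_map_iff_of_injective α.injective).2 (hA.lt P hP)
  obtain ⟨Q, hQ, hQle⟩ := hA.atom _ hlt
  have hlt' : normalizer (U : Set K) < Q.map α⁻¹.toMonoidHom := by
    rw [← map_normalizer α⁻¹ (map_symm_eq α h)]
    exact (map_lt_map_iff_of_injective α⁻¹.injective).2 (hA.lt Q hQ)
  obtain ⟨R, hR, hRle⟩ := hA.atom _ hlt'
  have h1 : Q.map α⁻¹.toMonoidHom ≤ P := by
    have := map_mono (f := α⁻¹.toMonoidHom) hQle
    rwa [map_symm_eq α rfl] at this
  have hRP := hA.anti R hR P hP (hRle.trans h1)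
  have h2 : Q.map α⁻¹.toMonoidHom = P := le_antisymm h1 (hRP ▸ hRle)
  have h3 := map_symm_eq α⁻¹ h2
  rw [inv_inv] at h3
  rw [h3]
  exact hQ

theorem Atoms.eq_or_of_le (hA : Atoms U A) {M : Subgroup K} (hM : normalizer (U : Set K) ≤ M) :
    M = normalizer (U : Set K) ∨ ∃ P ∈ A, P ≤ M :=
  hM.eq_or_lt.imp Eq.symm (hA.atom M)

end Atoms

section Transfer

variable {K L : Type*} [Group K] [Group L] (e : K ≃* L)

theorem map_autCongr {P : Subgroup K} (α : MulAut L) :
    (P.map e.toMonoidHom).map α.toMonoidHom =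
      (P.map ((e.trans α).trans e.symm).toMonoidHom).map e.toMonoidHom := by
  rw [map_map, map_map]
  congr 1
  ext x
  simp

theorem autCongr_fix {P : Subgroup K} {α : MulAut L}
    (h : (P.map e.toMonoidHom).map α.toMonoidHom = P.map e.toMonoidHom) :
    P.map ((e.trans α).trans e.symm).toMonoidHom = P :=
  map_injective (f := e.toMonoidHom) e.injective (by rw [← map_autCongr, h])

variable {U : Subgroup K} {A : Set (Subgroup K)}

theorem map_sSup (f : K →* L) (J : Set (Subgroup K)) : (sSup J).map f = sSup ((fun P => P.map f) '' J) := by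
  rw [sSup_image, sSup_eq_iSup, Subgroup.map_iSup]
  exact iSup_congr fun P => Subgroup.map_iSup _ _

theorem Atoms.map (hA : Atoms U A) :
    Atoms (U.map e.toMonoidHom) ((fun P => P.map e.toMonoidHom) '' A) := by
  have hN : normalizer ((U.map e.toMonoidHom : Subgroup L) : Set L) =
      (normalizer (U : Set K)).map e.toMonoidHom := (map_equiv_normalizer_eq U e).symm
  have hinj := map_injective (f := e.toMonoidHom) e.injective
  have hsurj : ∀ M : Subgroup L, (M.comap e.toMonoidHom).map e.toMonoidHom = M := fun M =>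
    map_comap_eq_self_of_surjective e.surjective M
  refine
    { nonempty := hA.nonempty.image _
      lt := ?_
      atom := fun M hM => ?_
      top := fun M hM hall => ?_
      proper := fun J hJ hne htop => ?_
      anti := ?_ }
  · rintro _ ⟨P, hP, rfl⟩
    rw [hN]
    exact (map_lt_map_iff_of_injective e.injective).2 (hA.lt P hP)
  · rw [hN, ← hsurj M, map_lt_map_iff_of_injective e.injective] at hM
    obtain ⟨P, hP, hle⟩ := hA.atom _ hM
    exact ⟨_, ⟨P, hP, rfl⟩, map_le_iff_le_comap.2 hle⟩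
  · rw [← hsurj M, hA.top _ (map_le_iff_le_comap.1 (hN ▸ hM))
      fun P hP => map_le_iff_le_comap.1 (hall _ ⟨P, hP, rfl⟩),
      map_top_of_surjective _ e.surjective]
  · obtain ⟨J₀, hJ₀, rfl⟩ := Set.subset_image_iff.1 hJ
    refine hA.proper J₀ hJ₀ (fun h => hne (by rw [h])) (hinj ?_)
    rw [Subgroup.map_sup, map_sSup, ← hN, htop, map_top_of_surjective _ e.surjective]
  · rintro _ ⟨P, hP, rfl⟩ _ ⟨Q, hQ, rfl⟩ hle
    rw [hA.anti P hP Q hQ ((map_le_map_iff_of_injective e.injective).1 hle)]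

theorem Asym.map (h : Asym U A) : Asym (U.map e.toMonoidHom) ((fun P => P.map e.toMonoidHom) '' A) := by
  obtain ⟨P, hP, Q, hQ, hPQ⟩ := h
  refine ⟨_, ⟨P, hP, rfl⟩, _, ⟨Q, hQ, rfl⟩, fun α hα he => hPQ _ (autCongr_fix e hα) ?_⟩
  rw [map_autCongr] at he
  exact map_injective e.injective he

theorem Rigid.map (h : Rigid U) : Rigid (U.map e.toMonoidHom) := by
  obtain ⟨hn, A, htop, hA⟩ := h
  refine ⟨fun he => hn (map_injective (f := e.toMonoidHom) e.injective ?_),
    (fun P => P.map e.toMonoidHom) '' A, ?_, ?_⟩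
  · rw [map_top_of_surjective _ e.surjective]
    exact (map_equiv_normalizer_eq U e).trans he
  · rw [← map_sSup, htop, map_top_of_surjective _ e.surjective]
  · rintro _ ⟨P, hP, rfl⟩
    obtain ⟨h1, h2, h3⟩ := hA P hP
    refine ⟨fun he => h1 (map_injective (f := e.toMonoidHom) e.injective ?_), map_mono h2, fun α hα => ?_⟩
    · rw [map_top_of_surjective _ e.surjective]
      exact he
    · rw [map_autCongr, h3 _ (autCongr_fix e hα)]

end Transfer

section RankOneIso

variable {K L : Type*} [Group K] [Group L]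

theorem rankOne_congr {p : ℕ} (e : K ≃* L) (h : Cfsg.IsLieRankOneChar p K) : Cfsg.IsLieRankOneChar p L := by
  rcases h with ⟨F, a, b, c, hq, ⟨f⟩⟩ | ⟨F, a, b, c, q, hF, hq, ⟨f⟩⟩ | ⟨hp, h⟩ |
    ⟨hp, h | ⟨F, a, b, hF, ⟨f⟩⟩⟩
  · exact Or.inl ⟨F, a, b, c, hq, ⟨e.symm.trans f⟩⟩
  · exact Or.inr (Or.inl ⟨F, a, b, c, q, hF, hq, ⟨e.symm.trans f⟩⟩)
  · obtain ⟨F, a, b, m, hm, hF, ⟨f⟩⟩ := h
    exact Or.inr (Or.inr (Or.inl ⟨hp, F, a, b, m, hm, hF, ⟨e.symm.trans f⟩⟩))
  · obtain ⟨F, a, b, m, hm, hF, ⟨f⟩⟩ := h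
    exact Or.inr (Or.inr (Or.inr ⟨hp, Or.inl ⟨F, a, b, m, hm, hF, ⟨e.symm.trans f⟩⟩⟩))
  · exact Or.inr (Or.inr (Or.inr ⟨hp, Or.inr ⟨F, a, b, hF, ⟨e.symm.trans f⟩⟩⟩))

theorem listed_congr (e : K ≃* L) (h : Listed K) : Listed L := by
  rcases h with ⟨F, a, b, c, ⟨f⟩⟩ | ⟨F, a, b, c, hF, ⟨f⟩⟩ | ⟨f⟩
  · exact Or.inl ⟨F, a, b, c, ⟨e.symm.trans f⟩⟩
  · exact Or.inr (Or.inl ⟨F, a, b, c, hF, ⟨e.symm.trans f⟩⟩)
  · obtain ⟨f'⟩ := f
    exact Or.inr (Or.inr ⟨e.symm.trans f'⟩)

theorem Shape.map {p : ℕ} {U : Subgroup K} (h : Shape p K U) (e : K ≃* L) :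
    Shape p L (U.map e.toMonoidHom) := by
  rcases h with ⟨A, hA, h⟩ | h
  · refine Or.inl ⟨_, hA.map e, ?_⟩
    rw [Set.ncard_image_of_injective _ (map_injective e.injective)]
    exact h.imp (And.imp_right (rankOne_congr e))
      (Or.imp (And.imp_right (Or.imp_right (listed_congr e))) (Asym.map e))
  · exact Or.inr (h.map e)

/-- The shape does not depend on the model or on the choice of the Sylow subgroup. -/
theorem Shape.sylow [Finite K] [Finite L] {p : ℕ} [Fact p.Prime] (e : L ≃* K) (V : Sylow p L)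
    (h : Shape p L (V : Subgroup L)) (U : Sylow p K) : Shape p K (U : Subgroup K) := by
  obtain ⟨g, hg⟩ := MulAction.exists_smul_eq K (V.mapSurjective (f := e.toMonoidHom) e.surjective) U
  have h2 := h.map (e.trans (MulAut.conj g))
  convert h2 using 1
  rw [← hg]
  exact map_map (V : Subgroup L) (MulAut.conj g).toMonoidHom e.toMonoidHom

end RankOneIso

section Main

variable {X : Type*} [Group X] [Finite X] {p : ℕ} [Fact p.Prime] (E : Subgroup X) [E.Normal]

theorem map_subtype_conj (P : Subgroup ↥E) (g : X) :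
    (P.map E.subtype).map (MulAut.conj g).toMonoidHom =
      (P.map (MulAut.conjNormal (H := E) g).toMonoidHom).map E.subtype := by
  rw [map_map, map_map]
  congr 1

theorem mem_normalizer_map_iff (P : Subgroup ↥E) (g : X) :
    g ∈ normalizer ((P.map E.subtype : Subgroup X) : Set X) ↔
      P.map (MulAut.conjNormal (H := E) g).toMonoidHom = P := by
  rw [mem_normalizer_iff_map_conj_eq]
  constructor
  · intro h
    exact map_injective (f := E.subtype) E.subtype_injective ((map_subtype_conj E P g).symm.trans h)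
  · intro h
    exact (map_subtype_conj E P g).trans (by rw [h])

theorem normalizer_subgroupOf (P : Subgroup ↥E) :
    (normalizer ((P.map E.subtype : Subgroup X) : Set X)).subgroupOf E = normalizer (P : Set ↥E) := by
  ext x
  rw [mem_subgroupOf, mem_normalizer_map_iff, mem_normalizer_iff_map_conj_eq]
  congr! 2

/-- A subgroup of `E` extended by a `p`-group normalising it still meets `E` in itself. -/
theorem sup_subgroupOf {P : Subgroup ↥E} {T : Subgroup X} (hn : T ≤ normalizer ((P.map E.subtype : Subgroup X) : Set X))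
    (hT : T.subgroupOf E ≤ P) : (P.map E.subtype ⊔ T).subgroupOf E = P := by
  refine le_antisymm (fun x hx => ?_) fun x hx => mem_subgroupOf.2 (mem_sup_left ⟨x, hx, rfl⟩)
  have hx' : (x : X) ∈ ((P.map E.subtype ⊔ T : Subgroup X) : Set X) := mem_subgroupOf.1 hx
  rw [coe_mul_of_right_le_normalizer_left _ _ hn] at hx'
  obtain ⟨_, ⟨a, ha, rfl⟩, t, ht, e⟩ := hx'
  have htE : t ∈ E := by
    have : t = ((a : X))⁻¹ * (x : X) := by
      rw [← e]
      exact (inv_mul_cancel_left _ _).symm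
    rw [this]
    exact mul_mem (inv_mem a.2) x.2
  have : x = a * ⟨t, htE⟩ := Subtype.ext e.symm
  rw [this]
  exact mul_mem ha (hT (mem_subgroupOf.2 ht))

/-- A subgroup above a Sylow subgroup has it as intersection with the normal subgroup. -/
theorem sylow_subgroupOf (U : Sylow p ↥E) {T : Sylow p X}
    (hT : (U : Subgroup ↥E).map E.subtype ≤ T) : (T : Subgroup X).subgroupOf E = (U : Subgroup ↥E) :=
  U.3 (T.2.comap_of_injective E.subtype E.subtype_injective)
    fun x hx => mem_subgroupOf.2 (hT ⟨x, hx, rfl⟩)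

theorem sylow_le_normalizer (U : Sylow p ↥E) {T : Sylow p X}
    (hT : (U : Subgroup ↥E).map E.subtype ≤ T) :
    (T : Subgroup X) ≤ normalizer (((U : Subgroup ↥E).map E.subtype : Subgroup X) : Set X) := by
  have hTE := sylow_subgroupOf E U hT
  intro t ht
  rw [mem_normalizer_map_iff]
  refine eq_of_le_of_card_ge ?_
    (Nat.card_congr ((U : Subgroup ↥E).equivMapOfInjective _
      (MulAut.conjNormal (H := E) t).injective).toEquiv).le
  rintro _ ⟨u, hu, rfl⟩
  refine hTE.le (mem_subgroupOf.2 ?_)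
  exact mul_mem (mul_mem ht (hT ⟨u, hu, rfl⟩)) (inv_mem ht)

theorem conj_trivial {P : Subgroup ↥E} {t : X} (ht : t ∈ E) (hP : (⟨t, ht⟩ : ↥E) ∈ P) :
    P.map (MulAut.conjNormal (H := E) t).toMonoidHom = P := by
  refine (mem_normalizer_map_iff E P t).1 ?_
  exact le_normalizer (⟨⟨t, ht⟩, hP, rfl⟩ : t ∈ P.map E.subtype)

/-- The `p`-elements over `U` act transitively on the atoms. -/
theorem transitive (hX : Cfsg.IsPMinimal p X) (U : Sylow p ↥E) {T : Sylow p X}
    (hT : (U : Subgroup ↥E).map E.subtype ≤ T) {A : Set (Subgroup ↥E)}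
    (hA : Atoms (U : Subgroup ↥E) A) {P Q : Subgroup ↥E} (hP : P ∈ A) (hQ : Q ∈ A) :
    ∃ t ∈ (T : Subgroup X), P.map (MulAut.conjNormal (H := E) t).toMonoidHom = Q := by
  classical
  obtain ⟨-, M, ⟨hM, hTM⟩, hMu⟩ := hX T
  have hTE := sylow_subgroupOf E U hT
  have hTN := sylow_le_normalizer E U hT
  have hNE := normalizer_subgroupOf E (U : Subgroup ↥E)
  have hne : normalizer ((U : Subgroup ↥E) : Set ↥E) ≠ ⊤ := fun he =>
    (he ▸ hA.lt P hP).not_ge le_top
  have below : ∀ H : Subgroup X, H ≠ ⊤ → (T : Subgroup X) ≤ H → H ≤ M := by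
    intro H hH hTH
    obtain ⟨M', hM', hHM'⟩ := (eq_top_or_exists_le_coatom H).resolve_left hH
    rwa [hMu M' ⟨hM', hTH.trans hHM'⟩] at hHM'
  have hfix : ∀ t ∈ (T : Subgroup X),
      (U : Subgroup ↥E).map (MulAut.conjNormal (H := E) t).toMonoidHom = U :=
    fun t ht => (mem_normalizer_map_iff E _ t).1 (hTN ht)
  by_contra hcon
  push Not at hcon
  -- every atom lies in `M`
  have hall : ∀ R ∈ A, R.map E.subtype ≤ M := by
    intro R hR
    set J : Set (Subgroup ↥E) :=
      {S | ∃ t ∈ (T : Subgroup X), R.map (MulAut.conjNormal (H := E) t).toMonoidHom = S} with hJdef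
    have hJA : J ⊆ A := by
      rintro _ ⟨t, ht, rfl⟩
      exact hA.map_mem _ (hfix t ht) hR
    have hcomp : ∀ (s t : X) (S : Subgroup ↥E), S.map (MulAut.conjNormal (H := E) (s * t)).toMonoidHom =
        (S.map (MulAut.conjNormal (H := E) t).toMonoidHom).map (MulAut.conjNormal (H := E) s).toMonoidHom := by
      intro s t S
      rw [map_map, map_mul]
      rfl
    have hJne : J ≠ A := fun he => by
      obtain ⟨s, hs, hs'⟩ : P ∈ J := he ▸ hP
      obtain ⟨t, ht, ht'⟩ : Q ∈ J := he ▸ hQ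
      refine hcon (t * s⁻¹) (mul_mem ht (inv_mem hs)) ?_
      rw [← hs', ← hcomp, inv_mul_cancel_right, ht']
    set Q₀ := normalizer ((U : Subgroup ↥E) : Set ↥E) ⊔ sSup J with hQ₀
    have hle : ∀ t ∈ (T : Subgroup X), Q₀.map (MulAut.conjNormal (H := E) t).toMonoidHom ≤ Q₀ := by
      intro t ht
      rw [hQ₀, Subgroup.map_sup, map_normalizer _ (hfix t ht), map_sSup]
      refine sup_le_sup le_rfl (sSup_le_sSup ?_)
      rintro _ ⟨_, ⟨s, hs, rfl⟩, rfl⟩
      exact ⟨t * s, mul_mem ht hs, hcomp t s R⟩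
    have hUQ : (U : Subgroup ↥E) ≤ Q₀ := le_normalizer.trans le_sup_left
    have hQT : (T : Subgroup X) ≤ normalizer ((Q₀.map E.subtype : Subgroup X) : Set X) := fun t ht =>
      (mem_normalizer_map_iff E Q₀ t).2 (eq_of_le_of_card_ge (hle t ht)
        (Nat.card_congr (Q₀.equivMapOfInjective _
          (MulAut.conjNormal (H := E) t).injective).toEquiv).le)
    have h1 : (Q₀.map E.subtype ⊔ (T : Subgroup X)).subgroupOf E = Q₀ :=
      sup_subgroupOf E hQT (hTE.le.trans hUQ)
    have h2 : Q₀.map E.subtype ≤ M := le_sup_left.trans (below _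
      (fun he => hA.proper J hJA hJne (h1.symm.trans (by rw [he]; exact top_subgroupOf E))) le_sup_right)
    refine le_trans (map_mono ?_) h2
    refine le_trans (le_sSup ?_) le_sup_right
    exact ⟨1, one_mem _, by
      convert map_id R using 2
      ext x
      simp⟩
  have hNM : normalizer (((U : Subgroup ↥E).map E.subtype : Subgroup X) : Set X) ≤ M :=
    below _ (fun he => hne (hNE.symm.trans (by rw [he]; exact top_subgroupOf E))) hTN
  have hEM : E ≤ M := subgroupOf_eq_top.1 (hA.top _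
    (fun y hy => mem_subgroupOf.2 (hNM (mem_subgroupOf.1 (hNE.ge hy))))
    fun R hR y hy => mem_subgroupOf.2 (hall R hR ⟨y, hy, rfl⟩))
  exact hM.1 (top_le_iff.1 (U.normalizer_sup_eq_top ▸ sup_le hNM hEM))

theorem not_rigid (hX : Cfsg.IsPMinimal p X) (U : Sylow p ↥E) : ¬ Rigid (U : Subgroup ↥E) := by
  rintro ⟨hne, A, htop, hAll⟩
  obtain ⟨T, hT⟩ := ((U.2).map E.subtype).exists_le_sylow
  obtain ⟨-, M, ⟨hM, hTM⟩, hMu⟩ := hX T
  have hTE := sylow_subgroupOf E U hT
  have hTN := sylow_le_normalizer E U hT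
  have hNE := normalizer_subgroupOf E (U : Subgroup ↥E)
  have below : ∀ H : Subgroup X, H ≠ ⊤ → (T : Subgroup X) ≤ H → H ≤ M := by
    intro H hH hTH
    obtain ⟨M', hM', hHM'⟩ := (eq_top_or_exists_le_coatom H).resolve_left hH
    rwa [hMu M' ⟨hM', hTH.trans hHM'⟩] at hHM'
  have hNM : normalizer (((U : Subgroup ↥E).map E.subtype : Subgroup X) : Set X) ≤ M :=
    below _ (fun he => hne (hNE.symm.trans (by rw [he]; exact top_subgroupOf E))) hTN
  have hall : sSup A ≤ M.subgroupOf E := sSup_le fun P hP => by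
    obtain ⟨h1, h2, h3⟩ := hAll P hP
    have hinv : (T : Subgroup X) ≤ normalizer ((P.map E.subtype : Subgroup X) : Set X) := fun t ht =>
      (mem_normalizer_map_iff E P t).2 (h3 _ ((mem_normalizer_map_iff E _ t).1 (hTN ht)))
    have h4 := sup_subgroupOf E hinv (hTE.le.trans h2)
    have h5 : P.map E.subtype ≤ M := le_sup_left.trans (below _
      (fun he => h1 (h4.symm.trans (by rw [he]; exact top_subgroupOf E))) le_sup_right)
    exact fun y hy => mem_subgroupOf.2 (h5 ⟨y, hy, rfl⟩)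
  rw [htop, top_le_iff, subgroupOf_eq_top] at hall
  exact hM.1 (top_le_iff.1 (U.normalizer_sup_eq_top ▸ sup_le hNM hall))

theorem maximal (U : Sylow p ↥E) {A : Set (Subgroup ↥E)} (hA : Atoms (U : Subgroup ↥E) A)
    (htr : ∀ P ∈ A, ∀ Q ∈ A, ∃ t ∈ normalizer (((U : Subgroup ↥E).map E.subtype : Subgroup X) : Set X),
      P.map (MulAut.conjNormal (H := E) t).toMonoidHom = Q) :
    IsCoatom (normalizer (((U : Subgroup ↥E).map E.subtype : Subgroup X) : Set X)) := by
  have hNE := normalizer_subgroupOf E (U : Subgroup ↥E)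
  obtain ⟨P₀, hP₀⟩ := hA.nonempty
  have hne : normalizer ((U : Subgroup ↥E) : Set ↥E) ≠ ⊤ := fun he =>
    (he ▸ hA.lt P₀ hP₀).not_ge le_top
  refine ⟨fun he => hne (hNE.symm.trans (by rw [he]; exact top_subgroupOf E)), fun H hH => ?_⟩
  have hH0 : normalizer ((U : Subgroup ↥E) : Set ↥E) ≤ H.subgroupOf E :=
    hNE.ge.trans fun y hy => mem_subgroupOf.2 (hH.le (mem_subgroupOf.1 hy))
  rcases hA.eq_or_of_le hH0 with he | ⟨P, hP, hPH⟩
  · exfalso
    refine hH.not_ge fun g hg => ?_
    rw [mem_normalizer_map_iff]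
    set α := MulAut.conjNormal (H := E) g with hα
    have hNm : (normalizer ((U : Subgroup ↥E) : Set ↥E)).map α.toMonoidHom ≤
        normalizer ((U : Subgroup ↥E) : Set ↥E) := by
      rw [← he]
      rintro _ ⟨y, hy, rfl⟩
      exact mem_subgroupOf.2 (mul_mem (mul_mem hg (mem_subgroupOf.1 hy)) (inv_mem hg))
    have hle : (U : Subgroup ↥E).map α.toMonoidHom ≤ normalizer ((U : Subgroup ↥E) : Set ↥E) :=
      (map_mono le_normalizer).trans hNm
    have hsup := (U.2.map α.toMonoidHom).to_sup_of_normal_right' U.2 hle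
    have heq := U.3 hsup le_sup_right
    have h2 : (U : Subgroup ↥E).map α.toMonoidHom ≤ U := le_trans le_sup_left heq.le
    exact eq_of_le_of_card_ge h2
      (Nat.card_congr ((U : Subgroup ↥E).equivMapOfInjective _ α.injective).toEquiv).le
  · have hall : ∀ Q ∈ A, Q ≤ H.subgroupOf E := by
      intro Q hQ
      obtain ⟨t, ht, rfl⟩ := htr P hP Q hQ
      rintro _ ⟨y, hy, rfl⟩
      exact mem_subgroupOf.2
        (mul_mem (mul_mem (hH.le ht) (mem_subgroupOf.1 (hPH hy))) (inv_mem (hH.le ht)))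
    exact top_le_iff.1
      (U.normalizer_sup_eq_top ▸ sup_le hH.le (subgroupOf_eq_top.1 (hA.top _ hH0 hall)))

theorem two_atoms (hX : Cfsg.IsPMinimal p X) (U : Sylow p ↥E) {T : Sylow p X}
    (hT : (U : Subgroup ↥E).map E.subtype ≤ T) {A : Set (Subgroup ↥E)}
    (hA : Atoms (U : Subgroup ↥E) A) (h2 : A.ncard = 2) : p = 2 ∧ E ≠ ⊤ := by
  classical
  have hTE := sylow_subgroupOf E U hT
  have hTN := sylow_le_normalizer E U hT
  obtain ⟨P, Q, hPQ, rfl⟩ := Set.ncard_eq_two.1 h2
  obtain ⟨t, ht, htPQ⟩ := transitive E hX U hT hA (P := P) (Q := Q) (by simp) (by simp)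
  have hfix := (mem_normalizer_map_iff E _ t).1 (hTN ht)
  set α := MulAut.conjNormal (H := E) t with hα
  have hQP : Q.map α.toMonoidHom = P := by
    rcases hA.map_mem α hfix (P := Q) (by simp) with h | h
    · exact h
    · exfalso
      exact hPQ (map_injective α.injective (htPQ.trans h.symm))
  refine ⟨?_, fun htop => ?_⟩
  · by_contra hp2
    obtain ⟨k, hk⟩ := T.2 ⟨t, ht⟩
    have hk' : t ^ (p ^ k) = 1 := congrArg Subtype.val hk
    obtain ⟨j, hj⟩ : Odd (p ^ k) := ((Fact.out : p.Prime).odd_of_ne_two hp2).pow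
    have hsq : ∀ j : ℕ, P.map (MulAut.conjNormal (H := E) (t ^ (2 * j))).toMonoidHom = P := by
      intro j
      induction j with
      | zero =>
        convert map_id P using 2
        ext x
        simp
      | succ j ih =>
        rw [show t ^ (2 * (j + 1)) = t * (t * t ^ (2 * j)) by rw [← pow_succ', ← pow_succ']; ring_nf,
          map_mul, map_mul]
        calc _ = ((P.map (MulAut.conjNormal (H := E) (t ^ (2 * j))).toMonoidHom).map α.toMonoidHom).map
              α.toMonoidHom := by rw [map_map, map_map]; rfl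
          _ = P := by rw [ih, htPQ, hQP]
    have h1 := hsq (j + 1)
    rw [show t ^ (2 * (j + 1)) = t by
      rw [show 2 * (j + 1) = p ^ k + 1 by omega, pow_succ, hk', one_mul]] at h1
    exact hPQ (h1.symm.trans htPQ)
  · have htE : t ∈ E := htop ▸ mem_top _
    have htP : (⟨t, htE⟩ : ↥E) ∈ P :=
      (hA.lt P (by simp)).le (le_normalizer (hTE.le (mem_subgroupOf.2 ht)))
    exact hPQ ((conj_trivial E htE htP).symm.trans htPQ)

theorem main (hX : Cfsg.IsPMinimal p X) (U : Sylow p ↥E) (h : Shape p ↥E (U : Subgroup ↥E)) :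
    IsCoatom (normalizer (((U : Subgroup ↥E).map E.subtype : Subgroup X) : Set X)) ∧
      (Cfsg.IsLieRankOneChar p ↥E ∨ (p = 2 ∧ E ≠ ⊤ ∧ Listed ↥E)) := by
  rcases h with ⟨A, hA, hcase⟩ | h
  swap
  · exact absurd h (not_rigid E hX U)
  obtain ⟨T, hT⟩ := ((U.2).map E.subtype).exists_le_sylow
  have htr := fun P hP Q hQ => transitive E hX U hT hA (P := P) (Q := Q) hP hQ
  refine ⟨maximal E U hA fun P hP Q hQ => ?_, ?_⟩
  · obtain ⟨t, ht, h⟩ := htr P hP Q hQ
    exact ⟨t, sylow_le_normalizer E U hT ht, h⟩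
  rcases hcase with ⟨-, h1⟩ | ⟨h2, hp⟩ | ⟨P, hP, Q, hQ, hPQ⟩
  · exact Or.inl h1
  · obtain ⟨h3, h4⟩ := two_atoms E hX U hT hA h2
    exact Or.inr ⟨h3, h4, hp.resolve_left fun h => h h3⟩
  · obtain ⟨t, ht, h⟩ := htr P hP Q hQ
    exact absurd h (hPQ _ ((mem_normalizer_map_iff E _ t).1 (sylow_le_normalizer E U hT ht)))

end Main

end Cfsg.Agent.PMinSocle
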