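import Cfsg.Agent.Lib.PMinSocle.BN
import Cfsg.Agent.Lib.Steinberg.SysPair
import Cfsg.Agent.Lib.Steinberg.FormTwist

/-!
# The quotients of split subgroups of special linear groups
-/

set_option autoImplicit false
set_option linter.unusedSectionVars false
set_option maxHeartbeats 400000

namespace Cfsg.Agent.PMinSocle

open Subgroup Cfsg.Agent.BTOver

section Quot

variable {G H K : Type*} [Group G] [Group H] [Group K] [Finite G] {p : ℕ} [Fact p.Prime]

/-- The possible reasons for the shape, read off a BN-pair. -/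
def Reason (P : Cfsg.BNPair G) (p : ℕ) (K : Type*) [Group K] : Prop :=
  (P.S.ncard = 1 ∧ Cfsg.IsLieRankOneChar p K) ∨ (P.S.ncard = 2 ∧ (p ≠ 2 ∨ Listed K)) ∨
    (∃ s₀ ∈ P.S, ∃ s₁ ∈ P.S, ∃ s₂ ∈ P.S, s₀ ≠ s₂ ∧ ¬ Cm P s₁ s₀ ∧ ¬ Cm P s₁ s₂ ∧
      ∀ t ∈ P.S, t ≠ s₁ → Cm P s₀ t) ∨
    (∃ s ∈ P.S, ∃ t ∈ P.S, P.B.relIndex (P.parabolic {s}) ≠ P.B.relIndex (P.parabolic {t}))

theorem shape_quot (P : Cfsg.BNPair G) (V : Sylow p G) (hV : Split P (V : Subgroup G)) (π : G →* H)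
    (hπ : Function.Surjective π) (hk : π.ker ≤ P.B ⊓ P.N) (e : H ≃* K) (h : Reason P p K)
    (U : Sylow p K) : Shape p K (U : Subgroup K) := by
  haveI : Finite H := Finite.of_surjective π hπ
  haveI : Finite K := Finite.of_equiv H e.toEquiv
  refine Shape.sylow e (V.mapSurjective hπ) ?_ U
  have hS := split_map P hV π hπ hk
  have hc := ncard_map_S P π hπ hk
  show Shape p H ((V : Subgroup G).map π)
  rcases h with ⟨h1, h⟩ | ⟨h1, h⟩ | ⟨a, ha, b, hb, c, hc', hne, h1, h2, h3⟩ | ⟨s, hs, t, ht, h⟩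
  · exact shape_one _ hS (hc.trans h1) (rankOne_congr e.symm h)
  · exact shape_two _ hS (hc.trans h1) (h.imp_right (listed_congr e.symm))
  · refine shape_asym _ hS ⟨π a, a, ha, rfl⟩ (asym_valence _ hS ⟨a, ha, rfl⟩ ⟨b, hb, rfl⟩ ⟨c, hc', rfl⟩
      (fun h => hne (map_injOn_S P π hk ha hc' h)) (fun h => h1 ((cm_map P π hπ hk b a).1 h))
      (fun h => h2 ((cm_map P π hπ hk b c).1 h)) ?_)
    rintro _ ⟨t, ht, rfl⟩ hne'
    exact (cm_map P π hπ hk a t).2 (h3 t ht fun h => hne' (by rw [h]))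
  · refine shape_asym _ hS ⟨π s, s, hs, rfl⟩ (asym_index _ hS ⟨s, hs, rfl⟩ ⟨t, ht, rfl⟩ ?_)
    rwa [relIndex_map P π hπ hk s, relIndex_map P π hπ hk t]

/-- The shape of a central quotient. -/
theorem shape_center (P : Cfsg.BNPair G) (V : Sylow p G) (hV : Split P (V : Subgroup G))
    (hc : Subgroup.center G ≤ P.B ⊓ P.N) (e : G ≃* H) (h : Reason P p (H ⧸ Subgroup.center H))
    (U : Sylow p (H ⧸ Subgroup.center H)) : Shape p (H ⧸ Subgroup.center H) (U : Subgroup _) := by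
  refine shape_quot P V hV ((QuotientGroup.mk' (Subgroup.center H)).comp e.toMonoidHom)
    ((QuotientGroup.mk'_surjective _).comp e.surjective) ?_ (MulEquiv.refl _) h U
  intro g hg
  refine hc (mem_center_iff.2 fun x => e.injective ?_)
  rw [map_mul, map_mul]
  exact mem_center_iff.1 ((QuotientGroup.eq_one_iff _).1 hg) (e x)

end Quot

section SL

open Matrix Cfsg.Agent.SLPair
open Cfsg.Agent.SLBlocks (uniU sylU upper_mul_diag)

variable {n : ℕ} {F : Type*} [Field F] [Fintype F]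

theorem cm_iff_of_B {G : Subgroup (SLn n F)} (P : Cfsg.BNPair G) (hB : P.B = (bSub n F).subgroupOf G)
    {s t : G} {σ τ : Equiv.Perm (Fin n)} (hs : Mono σ (s : SLn n F).1) (ht : Mono τ (t : SLn n F).1) :
    Cm P s t ↔ σ * τ = τ * σ := by
  have h : Mono ((σ * τ)⁻¹ * (τ * σ)) ((((s : SLn n F) * t)⁻¹ * (t * s) : SLn n F)).1 :=
    (show Mono (σ * τ) ((s : SLn n F) * t).1 from hs.mul ht).inv.mul
      (show Mono (τ * σ) ((t : SLn n F) * s).1 from ht.mul hs)
  unfold Cm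
  rw [hB]
  constructor
  · intro hm
    exact inv_mul_eq_one.1 (h.eq_one_of_upper hm)
  · intro he
    rw [he, inv_mul_cancel] at h
    exact mono_one_upper h

theorem conj_uni {b u : SLn n F} (hb : b ∈ bSub n F) (hu : u ∈ uniU n F) : b * u * b⁻¹ ∈ uniU n F := by
  have hu' : u ∈ bSub n F := hu.1
  have hbu : b.1.IsUpperTriangular := hb
  have hbi : (b⁻¹).1.IsUpperTriangular := (inv_mem hb : b⁻¹ ∈ bSub n F)
  refine ⟨mul_mem (mul_mem hb hu') (inv_mem hb), fun i => ?_⟩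
  have e : (b.1 * (b⁻¹).1) i i = (1 : Matrix (Fin n) (Fin n) F) i i :=
    congrFun (congrFun (congrArg Subtype.val (mul_inv_cancel b)) i) i
  rw [upper_mul_diag hbu hbi, Matrix.one_apply_eq] at e
  show (b.1 * u.1 * (b⁻¹).1) i i = 1
  rw [upper_mul_diag (Matrix.BlockTriangular.mul hbu hu.1) hbi, upper_mul_diag hbu hu.1, hu.2 i, mul_one, e]

theorem split_sl : Split (slPair n F) (uniU n F) where
  le := fun _ h => h.1
  conj := fun _ hb _ hu => conj_uni hb hu
  decomp := fun b hb => by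
    obtain ⟨t, ht, -, ht2⟩ := exists_torus (show b ∈ bSub n F from hb)
    exact ⟨b * t⁻¹, ht2, t, mono_one_mem ht, (inv_mul_cancel_right b t).symm⟩

/-- The generator of the `i`-th node. -/
def nd (i : ℕ) (h : i + 1 < n) : SLn n F :=
  wSL (i := (⟨i, by omega⟩ : Fin n)) (j := ⟨i + 1, h⟩) (by simp [Fin.ext_iff])

theorem nd_mem (i : ℕ) (h : i + 1 < n) : nd (F := F) i h ∈ sSet n F := ⟨_, _, _, rfl, rfl⟩

theorem sSet_eq : sSet n F = Set.range fun i : Fin (n - 1) => nd (F := F) i.1 (by omega) := by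
  ext w
  constructor
  · rintro ⟨i, j, h, hij, rfl⟩
    obtain ⟨j, hj⟩ := j
    simp only at hij
    subst hij
    exact ⟨⟨i, by omega⟩, rfl⟩
  · rintro ⟨i, rfl⟩
    exact nd_mem _ _

theorem nd_inj {i j : ℕ} (hi : i + 1 < n) (hj : j + 1 < n) (h : nd (F := F) i hi = nd j hj) : i = j := by
  have h1 : Mono _ (nd (F := F) i hi).1 := mono_wSL _
  rw [h] at h1
  have h2 := h1.unique (mono_wSL (F := F) (i := (⟨j, by omega⟩ : Fin n)) (j := ⟨j + 1, hj⟩)
    (by simp [Fin.ext_iff]))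
  have h3 := congrArg (fun σ : Equiv.Perm (Fin n) => σ ⟨i, by omega⟩) h2
  simp only [Equiv.swap_apply_left] at h3
  rw [Equiv.swap_apply_def] at h3
  split_ifs at h3 with e1 e2
  · simpa [Fin.ext_iff] using e1
  · simp [Fin.ext_iff] at e2 h3; omega
  · simp [Fin.ext_iff] at h3

theorem ncard_sSet : (sSet n F).ncard = n - 1 := by
  rw [sSet_eq, Set.ncard_range_of_injective fun a b h => Fin.ext (nd_inj _ _ h), Nat.card_eq_fintype_card,
    Fintype.card_fin]

theorem cm_sl {s t : SLn n F} {σ τ : Equiv.Perm (Fin n)} (hs : Mono σ s.1) (ht : Mono τ t.1) :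
    Cm (slPair n F) s t ↔ σ * τ = τ * σ := by
  have h : Mono ((σ * τ)⁻¹ * (τ * σ)) (((s * t)⁻¹ * (t * s) : SLn n F)).1 :=
    (show Mono (σ * τ) (s * t).1 from hs.mul ht).inv.mul (show Mono (τ * σ) (t * s).1 from ht.mul hs)
  unfold Cm
  constructor
  · intro hm
    exact inv_mul_eq_one.1 (h.eq_one_of_upper hm)
  · intro he
    rw [he, inv_mul_cancel] at h
    exact mono_one_upper h

theorem valence_sl (hn : 4 ≤ n) :
    ∃ s₀ ∈ (slPair n F).S, ∃ s₁ ∈ (slPair n F).S, ∃ s₂ ∈ (slPair n F).S, s₀ ≠ s₂ ∧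
      ¬ Cm (slPair n F) s₁ s₀ ∧ ¬ Cm (slPair n F) s₁ s₂ ∧
      ∀ t ∈ (slPair n F).S, t ≠ s₁ → Cm (slPair n F) s₀ t := by
  refine ⟨_, nd_mem 0 (by omega), _, nd_mem 1 (by omega), _, nd_mem 2 (by omega),
    fun h => absurd (nd_inj _ _ h) (by omega), ?_, ?_, ?_⟩
  · refine (cm_sl (mono_wSL _) (mono_wSL _)).not.2 ?_
    intro h
    have := congrArg (fun σ : Equiv.Perm (Fin n) => ((σ ⟨0, by omega⟩ : Fin n) : ℕ)) h
    simp [Equiv.Perm.mul_apply, Equiv.swap_apply_def, Fin.ext_iff] at this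
  · refine (cm_sl (mono_wSL _) (mono_wSL _)).not.2 ?_
    intro h
    have := congrArg (fun σ : Equiv.Perm (Fin n) => ((σ ⟨1, by omega⟩ : Fin n) : ℕ)) h
    simp [Equiv.Perm.mul_apply, Equiv.swap_apply_def, Fin.ext_iff] at this
  · intro t ht hne
    have ht' : t ∈ Set.range fun i : Fin (n - 1) => nd (F := F) i.1 (by omega) := sSet_eq (F := F) ▸ ht
    obtain ⟨⟨i, hi⟩, rfl⟩ := ht'
    rcases (show i = 0 ∨ i = 1 ∨ 2 ≤ i by omega) with rfl | rfl | h2
    · exact Cm.refl _ _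
    · exact absurd rfl hne
    · refine (cm_sl (mono_wSL _) (mono_wSL _)).2 ?_
      refine Equiv.ext fun a => Fin.ext ?_
      simp only [Equiv.Perm.mul_apply, Equiv.swap_apply_def, Fin.ext_iff]
      split_ifs <;> simp_all <;> omega

variable {F : Type} [Field F] [Fintype F] {p : ℕ} [Fact p.Prime] [CharP F p]

theorem good_psl {K : Type*} [Group K] {n : ℕ} (hn : 2 ≤ n) (h2 : n = 2 → 4 ≤ Fintype.card F)
    (e : K ≃* Matrix.ProjectiveSpecialLinearGroup (Fin n) F) (U : Sylow p K) :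
    Shape p K (U : Subgroup K) := by
  refine shape_quot (slPair n F) (sylU n F p) split_sl (QuotientGroup.mk' (Subgroup.center (SLn n F)))
    (QuotientGroup.mk'_surjective _) (by rw [QuotientGroup.ker_mk']; exact SLPair.center_le) e.symm ?_ U
  rcases (show n = 2 ∨ n = 3 ∨ 4 ≤ n by omega) with rfl | rfl | h4
  · exact Or.inl ⟨ncard_sSet, Or.inl ⟨F, inferInstance, inferInstance, inferInstance, h2 rfl, ⟨e⟩⟩⟩
  · refine Or.inr (Or.inl ⟨ncard_sSet, ?_⟩)
    by_cases hp : p = 2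
    · subst hp
      exact Or.inr (Or.inl ⟨F, inferInstance, inferInstance, inferInstance, ⟨e⟩⟩)
    · exact Or.inl hp
  · exact Or.inr (Or.inr (Or.inl (valence_sl h4)))

end SL

end Cfsg.Agent.PMinSocle
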