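import Cfsg.Agent.Lib.PMinSocle.Classical

/-!
# The shape of the orthogonal groups of even dimension
-/

set_option autoImplicit false
set_option linter.unusedSectionVars false
set_option maxHeartbeats 800000

namespace Cfsg.Agent.PMinSocle

open Matrix QuadraticMap Cfsg.Agent.SLPair Cfsg.Agent.DSplit Cfsg.Agent.S2549
open Cfsg.Agent.OrthLow (sig)

variable {n : ℕ}

theorem ref_one_zero (hn : 6 ≤ n) {i j : Idx n} (hi : (i : ℕ) = 1) (hj : (j : ℕ) = 0) :
    ref i * ref j ≠ ref j * ref i := by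
  intro h
  have h' := congrArg (fun σ : Equiv.Perm (Fin n) => ((σ ⟨0, by omega⟩ : Fin n) : ℕ)) h
  simp only [Equiv.Perm.mul_apply, ref_val, hi, hj] at h'
  rw [show refN n 0 0 = 1 by unfold refN; split_ifs <;> omega,
    show refN n 1 0 = 0 from refN_of_lt (by omega) Nat.one_pos,
    show refN n 0 0 = 1 by unfold refN; split_ifs <;> omega] at h'
  exact ref_self_ne (⟨1, by omega⟩ : Idx n) h'

theorem ref_one_two (hn : 6 ≤ n) {i j : Idx n} (hi : (i : ℕ) = 1) (hj : (j : ℕ) = 2) :
    ref i * ref j ≠ ref j * ref i := by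
  intro h
  have h' := congrArg (fun σ : Equiv.Perm (Fin n) => ((σ ⟨1, by omega⟩ : Fin n) : ℕ)) h
  simp only [Equiv.Perm.mul_apply, ref_val, hi, hj] at h'
  rw [show refN n 2 1 = 1 from refN_of_lt (by omega) (by omega),
    show refN n 1 1 = 2 by unfold refN; split_ifs <;> omega] at h'
  exact ref_self_ne (⟨2, by omega⟩ : Idx n) h'.symm

/-- A permutation fixing the outer points and keeping the inner ones inner commutes with the first reflection. -/
theorem comm_first (hn : 6 ≤ n) {i : Idx n} (hi : (i : ℕ) = 0) (τ : Equiv.Perm (Fin n))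
    (hout : ∀ a : Fin n, (a : ℕ) < 2 ∨ n < (a : ℕ) + 3 → τ a = a) : ref i * τ = τ * ref i := by
  have h02 : ∀ b < n, 2 ≤ b → b + 3 ≤ n → refN n 0 b = b := fun b hb h h' => by
    unfold refN; split_ifs <;> omega
  have h03 : ∀ b < n, b < 2 ∨ n < b + 3 → refN n 0 b < 2 ∨ n < refN n 0 b + 3 := fun b hb hout => by
    unfold refN; split_ifs <;> omega
  refine Equiv.ext fun a => ?_
  show ref i (τ a) = τ (ref i a)
  by_cases ha : (a : ℕ) < 2 ∨ n < (a : ℕ) + 3
  · rw [hout a ha, hout (ref i a) (by rw [ref_val, hi]; exact h03 _ a.2 ha)]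
  · have hb : ¬ ((τ a : ℕ) < 2 ∨ n < (τ a : ℕ) + 3) := fun h => ha (by
      rwa [τ.injective (hout _ h)] at h)
    rw [show ref i a = a from Fin.ext (by rw [ref_val, hi]; exact h02 _ a.2 (by omega) (by omega))]
    exact Fin.ext (by rw [ref_val, hi]; exact h02 _ (τ a).2 (by omega) (by omega))

theorem ref_fix_out {i : Idx n} (hi : 2 ≤ (i : ℕ)) (a : Fin n) (ha : (a : ℕ) < 2 ∨ n < (a : ℕ) + 3) :
    ref i a = a := Fin.ext (by
  have := i.2
  have := a.2
  rw [ref_val]; unfold refN; split_ifs <;> omega)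

theorem ixA_val {N : ℕ} (i : Fin (N - 1)) : ((ixA i : Idx (2 * N)) : ℕ) = i := rfl

theorem mid_fix_out {N : ℕ} (hN : 4 ≤ N) (a : Fin (2 * N)) (ha : (a : ℕ) < 2 ∨ 2 * N < (a : ℕ) + 3) :
    mid N a = a := Fin.ext (by rw [mid_val]; simp only [midN]; split_ifs <;> omega)

variable {L : Type*} [Group L] {F : Type} [Field F] [Fintype F] {p : ℕ} [Fact p.Prime] [CharP F p]

theorem good_omega_plus {m : ℕ} (hm : 4 ≤ m) (g : L ≃* Cfsg.POmega F (Cfsg.quadFormPlus m F))
    (U : Sylow p L) : Shape p L (U : Subgroup L) := by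
  classical
  revert g
  rw [← Cfsg.Agent.Orth.coe_qPlus]
  intro g
  obtain ⟨T, hTU⟩ : ∃ T : SLPair.Split (2 * m) F, ∀ _ : Unit, Shape p L (U : Subgroup L) := by
    let C := S2548.plusCoord m F
    let T := plusSplit C.img C.img_spec fun g ht hg =>
      C.mem_img_tri p (Cfsg.Agent.Orth.qPlus_nondeg m) (by simp; omega)
        (Or.inr (by simp; omega)) ht hg (fun i j => ⟨_, rfl⟩)
    refine ⟨T, fun _ => shape_split T (MonoidHom.ofInjective C.emb_inj).symm g ?_ U⟩
    refine Or.inr (Or.inr (Or.inl (valence_split T (Sum.inl ⟨0, by omega⟩) (Sum.inl ⟨1, by omega⟩)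
      (Sum.inl ⟨2, by omega⟩) ?_ ?_ ?_ ?_)))
    · exact fun h => absurd (congrArg Fin.val (Sum.inl_injective h)) (show (0 : ℕ) ≠ 2 by decide)
    · exact ref_one_zero (by omega) rfl rfl
    · exact ref_one_two (by omega) rfl rfl
    · intro j hj
      show rPlus (Sum.inl ⟨0, by omega⟩) * rPlus j = rPlus j * rPlus (Sum.inl ⟨0, by omega⟩)
      have e0 : rPlus (Sum.inl ⟨0, by omega⟩ : IPlus m) = ref (ixA (⟨0, by omega⟩ : Fin (m - 1))) := by
        simp [rPlus, IPlus.tws, IPlus.base]
      rw [e0]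
      rcases j with ⟨i, hi⟩ | ⟨⟨i, hi⟩, hiN⟩
      · have e1 : rPlus (Sum.inl ⟨i, hi⟩ : IPlus m) = ref (ixA (⟨i, hi⟩ : Fin (m - 1))) := by
          simp [rPlus, IPlus.tws, IPlus.base]
        rw [e1]
        rcases (show i = 0 ∨ i = 1 ∨ 2 ≤ i by omega) with rfl | rfl | h2
        · rfl
        · exact absurd rfl hj
        · exact comm_first (by omega) rfl _ fun a ha => ref_fix_out (by exact h2) a ha
      · simp only at hiN
        refine comm_first (by omega) rfl _ fun a ha => ?_
        show mid m (ref (ixA (⟨i, hi⟩ : Fin (m - 1))) (mid m a)) = a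
        rw [mid_fix_out hm a ha, ref_fix_out (show 2 ≤ i by omega) a ha, mid_fix_out hm a ha]
  exact hTU ()

theorem good_omega_minus {m : ℕ} (hm : 3 ≤ m) {a b : F}
    (hab : ∀ z₁ z₂ : F, z₁ ^ 2 + a * z₁ * z₂ + b * z₂ ^ 2 = 0 → z₁ = 0 ∧ z₂ = 0)
    (g : L ≃* Cfsg.POmega F (Cfsg.quadFormMinus m F a b)) (U : Sylow p L) :
    Shape p L (U : Subgroup L) := by
  classical
  obtain ⟨K, _, _, hfr, hfin⟩ := AutPOmega.exists_quad_ext (F := F)
  haveI : Fintype K := Fintype.ofFinite K
  haveI : CharP K p := charP_of_injective_algebraMap (algebraMap F K).injective p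
  have hK : Nat.card K = Fintype.card F ^ 2 := by
    haveI : Module.Finite F K := Module.finite_of_finrank_pos (by omega)
    rw [Module.natCard_eq_pow_finrank (K := F) (V := K), hfr, Nat.card_eq_fintype_card]
  obtain ⟨w, hw⟩ := AutPOmega.exists_root_ext (K := K) hab (by rw [hfr])
  obtain ⟨h1, h2⟩ := AutPOmega.conj_root hab (s := sig F K) (map_add _) (map_mul _) OrthLow.sig_algebraMap
    (fun x => OrthLow.sig_fix) hw
  obtain ⟨φ, hφ⟩ : ∃ φ : K →+* K, (sig F K).toRingHom = φ := ⟨_, rfl⟩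
  have hφs : ∀ x, φ x = sig F K x := fun x => by rw [← hφ]; rfl
  have hww : w ≠ sig F K w := fun e => by
    obtain ⟨c, hc⟩ := OrthLow.sig_fix e.symm
    rw [← hc] at hw
    refine one_ne_zero (hab c 1 ((algebraMap F K).injective ?_)).2
    simp only [map_add, map_mul, map_pow, map_one, map_zero]
    linear_combination hw
  revert g
  rw [← Cfsg.Agent.Orth.coe_qMinus]
  intro g
  obtain ⟨C, hCP⟩ : ∃ C : Coord (m + 1) (Orth.qMinus F m a b) K,
      C.P = LinearMap.toMatrix' ((coordM m hww).trans (coordA (m + 1) K).symm).toLinearMap :=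
    ⟨minusCoord _ hww (fun x => by
      rw [Orth.coe_qPlus, Orth.coe_qMinus, Cfsg.quadFormPlus, Fin.sum_univ_castSucc, Cfsg.quadFormMinus]
      simp only [coordM, LinearEquiv.coe_mk, LinearMap.coe_mk, AddHom.coe_mk, Sum.elim_inl, Sum.elim_inr,
        Fin.snoc_castSucc, Fin.snoc_last, map_add, map_sum, map_mul, map_pow]
      linear_combination (-(algebraMap F K (x (.inr 0)) * algebraMap F K (x (.inr 1)))) * h1 +
        algebraMap F K (x (.inr 1)) ^ 2 * h2), rfl⟩
  have hP : C.P.map φ = C.P.submatrix (mid (m + 1)) id := by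
    refine Matrix.ext fun i j => ?_
    rw [Matrix.map_apply, Matrix.submatrix_apply, hCP, LinearMap.toMatrix'_apply, LinearMap.toMatrix'_apply]
    have h := phi_coordM hww φ (hφs w) (by rw [hφs, OrthLow.sig_sig hK])
      (fun k => if k = j then 1 else 0) (mid (m + 1) i)
    rw [mid_mid, show φ ∘ (fun k => if k = j then (1 : K) else 0) = fun k => if k = j then (1 : K) else 0 from
      funext fun k => by simp [apply_ite φ]] at h
    rw [show (fun k => if k = j then (1 : K) else 0) = Pi.single j 1 from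
      funext fun k => (Pi.single_apply j (1 : K) k).symm] at h
    exact h
  have hPi : C.Pi.map φ = C.Pi.submatrix id (mid (m + 1)) := by
    have e1 : C.Pi.map φ * C.P.map φ = 1 := by
      rw [← Matrix.map_mul, C.inv_mul, Matrix.map_one _ (map_zero _) (map_one _)]
    have e2 : C.P.submatrix (mid (m + 1)) id * C.Pi.submatrix id (mid (m + 1)) = 1 := by
      rw [← Equiv.coe_refl, Matrix.submatrix_mul_equiv, C.mul_inv, Matrix.submatrix_one_equiv]
    rw [hP] at e1
    calc C.Pi.map φ = C.Pi.map φ * (C.P.submatrix (mid (m + 1)) id * C.Pi.submatrix id (mid (m + 1))) := by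
          rw [e2, Matrix.mul_one]
      _ = _ := by rw [← Matrix.mul_assoc, e1, Matrix.one_mul]
  have hG : ∀ g ∈ C.img, InO g ∧ Pr g ∧ rho (m + 1) φ g = g := by
    intro g hg
    obtain ⟨h3, h4⟩ := C.img_spec g hg
    refine ⟨h3, h4, ?_⟩
    obtain ⟨o, rfl⟩ := hg
    refine Subtype.ext ?_
    show ((C.P * o.1.1.1.map (algebraMap F K) * C.Pi).map φ).submatrix (mid (m + 1)) (mid (m + 1)) =
      C.P * o.1.1.1.map (algebraMap F K) * C.Pi
    rw [Matrix.map_mul, Matrix.map_mul, hP, hPi,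
      show (o.1.1.1.map (algebraMap F K)).map φ = o.1.1.1.map (algebraMap F K) from
        Matrix.ext fun i j => by simp [hφs]]
    refine Matrix.ext fun i j => ?_
    simp only [Matrix.submatrix_apply, Matrix.mul_apply, id_eq, mid_mid]
  let T : SLPair.Split (2 * (m + 1)) K := (minusSplit φ C.img hG fun g ht hg hfix =>
    C.mem_img_tri p (Orth.qMinus_nondeg hab m) (by simp) (Or.inr (by simp; omega)) ht hg
      fun i j => OrthLow.sig_fix (by
        rw [← hφs]
        show ((C.Pi * g.1 * C.P).map φ) i j = _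
        rw [Matrix.map_mul, Matrix.map_mul, hP, hPi, show g.1.map φ = g.1.submatrix (mid (m + 1)) (mid (m + 1)) from
          Matrix.ext fun x y => by
            have h := congrArg (fun M : SLn (2 * (m + 1)) K => M.1 (mid (m + 1) x) (mid (m + 1) y)) hfix
            simp only [rho_apply, mid_mid] at h
            exact h, Matrix.submatrix_mul_equiv, Matrix.submatrix_mul_equiv, Matrix.submatrix_id_id]))
  refine shape_split T (MonoidHom.ofInjective C.emb_inj).symm g ?_ U
  refine Or.inr (Or.inr (Or.inl ?_))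
  have e : ∀ i : Fin (m + 1 - 2), T.r (Sum.inl i) = ref (ixA (lift i)) := fun i => rfl
  have equad : ∀ u : {_u : Unit // 2 ≤ m + 1}, T.r (Sum.inr u) = quad u.2 := fun u => rfl
  have qfix : ∀ (hN : 2 ≤ m + 1) (a : Fin (2 * (m + 1))), (a : ℕ) < 2 ∨ 2 * (m + 1) < (a : ℕ) + 3 → quad hN a = a :=
    fun hN a ha => Fin.ext (by
      show quadN (m + 1) a = (a : ℕ)
      simp only [quadN]; split_ifs <;> omega)
  have hleaf : ∀ j : IMinus (m + 1), j ≠ Sum.inl ⟨1, by omega⟩ →
      T.r (Sum.inl ⟨0, by omega⟩) * T.r j = T.r j * T.r (Sum.inl ⟨0, by omega⟩) := by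
    rintro (⟨i, hi⟩ | u) hne
    · rcases (show i = 0 ∨ i = 1 ∨ 2 ≤ i by omega) with rfl | rfl | h2
      · rfl
      · exact absurd rfl hne
      · rw [e, e]
        exact comm_first (by omega) rfl _ fun a ha => ref_fix_out (by exact h2) a ha
    · rw [e, equad]
      exact comm_first (by omega) rfl _ (qfix u.2)
  rcases (show m = 3 ∨ 4 ≤ m by omega) with hm3 | hm4
  · refine valence_split T (Sum.inl ⟨0, by omega⟩) (Sum.inl ⟨1, by omega⟩) (Sum.inr ⟨(), by omega⟩)
      (fun h => Sum.inl_ne_inr h) (ref_one_zero (by omega) rfl rfl) ?_ hleaf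
    rw [e, equad]
    intro h
    have h' := congrArg (fun σ : Equiv.Perm (Fin (2 * (m + 1))) => ((σ ⟨1, by omega⟩ : Fin (2 * (m + 1))) : ℕ)) h
    subst hm3
    change refN 8 1 (quadN 4 1) = quadN 4 (refN 8 1 1) at h'
    revert h'
    decide
  · refine valence_split T (Sum.inl ⟨0, by omega⟩) (Sum.inl ⟨1, by omega⟩) (Sum.inl ⟨2, by omega⟩)
      (fun h => absurd (congrArg Fin.val (Sum.inl_injective h)) (show (0 : ℕ) ≠ 2 by decide))
      (ref_one_zero (by omega) rfl rfl) (ref_one_two (by omega) rfl rfl) hleaf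

end Cfsg.Agent.PMinSocle
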