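import Cfsg.Agent.Lib.PMinSocle.Twisted
import Cfsg.Agent.Lib.BorelTitsOver.Small

/-!
# The shape of `L₂(8)` for `p = 3` and of `A₆` for `p = 2`
-/

set_option autoImplicit false
set_option linter.unusedSectionVars false
set_option maxRecDepth 8000
set_option maxHeartbeats 800000

namespace Cfsg.Agent.PMinSocle

open Subgroup

section Two

variable {G : Type*} [Group G] {U P Q : Subgroup G}

/-- Two overgroups and nothing else. -/
theorem atoms_pair (hP : normalizer (U : Set G) < P) (hQ : normalizer (U : Set G) < Q) (hPt : P ≠ ⊤)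
    (hQt : Q ≠ ⊤) (hPQ : ¬ P ≤ Q) (hQP : ¬ Q ≤ P)
    (hall : ∀ M : Subgroup G, normalizer (U : Set G) < M → M = P ∨ M = Q ∨ M = ⊤) : Atoms U {P, Q} where
  nonempty := Set.insert_nonempty _ _
  lt := by rintro R (rfl | rfl) <;> assumption
  atom := fun M hM => by
    rcases hall M hM with rfl | rfl | rfl
    · exact ⟨M, Or.inl rfl, le_rfl⟩
    · exact ⟨M, Or.inr rfl, le_rfl⟩
    · exact ⟨P, Or.inl rfl, le_top⟩
  top := fun M _ h => by
    have h1 := h P (Or.inl rfl)
    have h2 := h Q (Or.inr rfl)
    rcases hall M (hP.trans_le h1) with rfl | rfl | rfl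
    · exact absurd h2 hQP
    · exact absurd h1 hPQ
    · rfl
  proper := fun J hJ hne htop => by
    by_cases hQJ : Q ∈ J
    · refine hQt (top_le_iff.1 (htop.ge.trans (sup_le hQ.le (sSup_le fun R hR => ?_))))
      rcases hJ hR with rfl | rfl
      · exact absurd (Set.Subset.antisymm hJ (Set.insert_subset hR (Set.singleton_subset_iff.2 hQJ))) hne
      · exact le_rfl
    · refine hPt (top_le_iff.1 (htop.ge.trans (sup_le hP.le (sSup_le fun R hR => ?_))))
      rcases hJ hR with rfl | rfl
      · exact le_rfl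
      · exact absurd hR hQJ
  anti := by
    rintro R (rfl | rfl) S (rfl | rfl) h <;> first | rfl | exact absurd h hPQ | exact absurd h hQP

end Two

/-- An element of order nine excludes subgroups of index below nine. -/
theorem nine_le_index {G : Type*} [Group G] [Finite G] [IsSimpleGroup G] {g : G} (hg : orderOf g = 9)
    {H : Subgroup G} (hH : H ≠ ⊤) : 9 ≤ H.index := by
  by_contra h
  classical
  letI := Fintype.ofFinite (G ⧸ H)
  have hcore : H.normalCore = ⊥ :=
    (IsSimpleGroup.eq_bot_or_eq_top_of_normal H.normalCore inferInstance).resolve_right fun e =>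
      hH (eq_top_iff.2 (e ▸ H.normalCore_le))
  have hinj : Function.Injective (MulAction.toPermHom G (G ⧸ H)) :=
    (MonoidHom.ker_eq_bot_iff _).1 (by rw [← Subgroup.normalCore_eq_ker, hcore])
  set σ := MulAction.toPermHom G (G ⧸ H) g
  have hσ : orderOf σ = 9 := (orderOf_injective _ hinj g).trans hg
  have hcard : Fintype.card (G ⧸ H) ≤ 8 := by
    rw [← Nat.card_eq_fintype_card]
    show H.index ≤ 8
    omega
  have h3 : σ.cycleType.lcm ∣ 3 * (5 * 7 * 8) := by
    refine Multiset.lcm_dvd.2 fun n hn => ?_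
    have h1 : n ≤ 8 := (Multiset.single_le_sum (fun x _ => Nat.zero_le x) n hn).trans
      (σ.sum_cycleType.le.trans ((Finset.card_le_univ _).trans hcard))
    have h2 := Equiv.Perm.two_le_of_mem_cycleType hn
    interval_cases n <;> decide
  rw [σ.lcm_cycleType, hσ] at h3
  exact absurd h3 (by decide)

theorem rankOne_psl2_eight {F : Type} [Field F] [Fintype F] (hF : Fintype.card F = 8) :
    Cfsg.IsLieRankOneChar 3 (Matrix.ProjectiveSpecialLinearGroup (Fin 2) F) :=
  Or.inr (Or.inr (Or.inr ⟨rfl, Or.inr ⟨F, inferInstance, inferInstance, hF, ⟨MulEquiv.refl _⟩⟩⟩))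

theorem good_psl2_eight {L : Type*} [Group L] {F : Type} [Field F] [Fintype F] (hF : Fintype.card F = 8)
    (e : L ≃* Matrix.ProjectiveSpecialLinearGroup (Fin 2) F) (U : Sylow 3 L) :
    Shape 3 L (U : Subgroup L) := by
  have hr := rankOne_psl2_eight hF
  classical
  haveI : Fact (Nat.Prime 3) := ⟨Nat.prime_three⟩
  haveI : IsSimpleGroup (Matrix.ProjectiveSpecialLinearGroup (Fin 2) F) :=
    Matrix.ProjectiveSpecialLinearGroup.rank_two_simple (by rw [Nat.card_eq_fintype_card, hF]; norm_num)
  haveI : Finite L := Finite.of_equiv _ e.symm.toEquiv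
  haveI : CharP F 2 := charP_of_card_eq_prime_pow (f := 3) hF
  have hG : Nat.card (Matrix.ProjectiveSpecialLinearGroup (Fin 2) F) = 3 ^ 2 * 56 := by
    have h := ClassicalSL.card_psl_mul (ι := Fin 2) (F := F)
    rw [Matrix.card_GL_field] at h
    simp only [Fintype.card_fin, Nat.card_eq_fintype_card (α := F), hF, Fin.prod_univ_two,
      Fin.val_zero, Fin.val_one] at h
    norm_num at h
    norm_num
    omega
  obtain ⟨t, ht, ht1⟩ : ∃ t : F, t ^ 3 + t + 1 = 0 ∧ t ≠ 1 := by
    obtain ⟨x, -, hx⟩ := Finset.exists_mem_notMem_of_card_lt_card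
      (show ({0, 1} : Finset F).card < (Finset.univ : Finset F).card by
        rw [Finset.card_univ, hF]; exact lt_of_le_of_lt Finset.card_le_two (by norm_num))
    simp only [Finset.mem_insert, Finset.mem_singleton, not_or] at hx
    have h7 : x ^ 7 = 1 := by
      have := FiniteField.pow_card_sub_one_eq_one x hx.1
      rwa [hF] at this
    have h2 : (2 : F) = 0 := CharTwo.two_eq_zero
    have hfac : (x - 1) * ((x ^ 3 + x + 1) * (x ^ 3 + x ^ 2 + 1)) = 0 := by
      linear_combination h7 + (x ^ 4 - x ^ 3) * h2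
    have hne : ∀ y : F, y ^ 3 + y + 1 = 0 → y ≠ 1 := fun y hy h => by
      subst h
      exact one_ne_zero (α := F) (by linear_combination hy - h2)
    rcases mul_eq_zero.1 hfac with h | h
    · exact absurd (sub_eq_zero.1 h) hx.2
    rcases mul_eq_zero.1 h with h | h
    · exact ⟨x, h, hne x h⟩
    · have : (x + 1) ^ 3 + (x + 1) + 1 = 0 := by linear_combination h + (x ^ 2 + 2 * x + 1) * h2
      exact ⟨x + 1, this, hne _ this⟩
  -- an element of order nine
  let g₀ : Matrix.SpecialLinearGroup (Fin 2) F :=
    ⟨!![0, 1; 1, t], by rw [Matrix.det_fin_two_of, zero_mul, zero_sub, mul_one, CharTwo.neg_eq]⟩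
  have h3 : (g₀ ^ 3 : Matrix.SpecialLinearGroup (Fin 2) F).1 = !![t, 1 + t ^ 2; 1 + t ^ 2, t ^ 3] := by
    show (!![0, 1; 1, t] : Matrix (Fin 2) (Fin 2) F) ^ 3 = _
    rw [pow_three]
    have h2 : (2 : F) = 0 := CharTwo.two_eq_zero
    ext i j
    fin_cases i <;> fin_cases j <;> simp [Matrix.mul_fin_two] <;> grobner
  have h9 : g₀ ^ 9 = 1 := by
    refine Subtype.ext ?_
    rw [show 9 = 3 * 3 by norm_num, pow_mul, Matrix.SpecialLinearGroup.coe_pow, h3, pow_three]
    have h2 : (2 : F) = 0 := CharTwo.two_eq_zero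
    have ht3 : t ^ 3 = t + 1 := by linear_combination ht - (t + 1) * h2
    have e4 : t ^ 4 = t ^ 2 + t := by linear_combination t * ht3
    have e5 : t ^ 5 = t ^ 3 + t ^ 2 := by linear_combination t ^ 2 * ht3
    ext i j
    fin_cases i <;> fin_cases j <;> simp [Matrix.mul_fin_two, ht3] <;> grobner
  set g := QuotientGroup.mk' (Subgroup.center (Matrix.SpecialLinearGroup (Fin 2) F)) g₀ with hg
  have hord : orderOf g = 9 := by
    refine orderOf_eq_prime_pow (p := 3) (n := 1) ?_ ?_
    · rw [pow_one, hg, ← map_pow, ← MonoidHom.mem_ker, QuotientGroup.ker_mk']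
      intro hc
      obtain ⟨r, -, hr⟩ := Matrix.SpecialLinearGroup.mem_center_iff.1 hc
      have h01 := congrFun (congrFun hr 0) 1
      rw [h3] at h01
      simp at h01
      have : (t + 1) ^ 2 = 0 := by
        have h2 : (2 : F) = 0 := CharTwo.two_eq_zero
        grobner
      exact ht1 (CharTwo.add_eq_zero.1 (sq_eq_zero_iff.1 this))
    · rw [hg, ← map_pow]
      show QuotientGroup.mk' _ (g₀ ^ 9) = 1
      rw [h9, map_one]
  let V : Sylow 3 (Matrix.ProjectiveSpecialLinearGroup (Fin 2) F) := Classical.arbitrary _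
  refine Shape.sylow e.symm V (shape_coatom ?_ ?_) U
  · set N := normalizer ((V : Subgroup (Matrix.ProjectiveSpecialLinearGroup (Fin 2) F)) : Set (Matrix.ProjectiveSpecialLinearGroup (Fin 2) F)) with hN
    have hcardV : Nat.card (V : Subgroup (Matrix.ProjectiveSpecialLinearGroup (Fin 2) F)) = 9 := by
      have h56 : Nat.factorization 56 3 = 0 := Nat.factorization_eq_zero_of_not_dvd (by norm_num)
      rw [V.card_eq_multiplicity, hG, Nat.factorization_mul (by norm_num) (by norm_num), Finsupp.add_apply, h56,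
        Nat.prime_three.factorization_pow, Finsupp.single_eq_same]
      norm_num
    have hNt : N ≠ ⊤ := fun h => by
      haveI : (V : Subgroup (Matrix.ProjectiveSpecialLinearGroup (Fin 2) F)).Normal := normalizer_eq_top_iff.1 h
      rcases IsSimpleGroup.eq_bot_or_eq_top_of_normal (V : Subgroup (Matrix.ProjectiveSpecialLinearGroup (Fin 2) F)) inferInstance with h | h <;>
        rw [h] at hcardV
      · rw [card_bot] at hcardV; omega
      · rw [card_top, hG] at hcardV; omega
    have hidx : ∀ M, N ≤ M → M ≠ ⊤ → M.index ∈ ({14, 28, 56} : Finset ℕ) := by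
      intro M hM hMt
      have h1 := nine_le_index hord hMt
      have h2 := BTOver.Small.index_mem hG (by norm_num) (fun hd => V.not_dvd_index
        (hd.trans (index_dvd_of_le (le_normalizer.trans hM))))
      rw [show Nat.divisors 56 = {1, 2, 4, 7, 8, 14, 28, 56} by decide] at h2
      simp only [Finset.mem_insert, Finset.mem_singleton] at h2 ⊢
      omega
    have hn28 : N.index = 28 := by
      have h1 := card_sylow_modEq_one 3 (Matrix.ProjectiveSpecialLinearGroup (Fin 2) F)
      rw [Sylow.card_eq_index_normalizer V] at h1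
      have h2 := hidx N le_rfl hNt
      simp only [Finset.mem_insert, Finset.mem_singleton] at h2
      rcases h2 with h2 | h2 | h2 <;>
        first | exact h2 | (replace h1 : N.index ≡ 1 [MOD 3] := h1; rw [h2] at h1; exact absurd h1 (by decide))
    refine ⟨hNt, fun M hM => ?_⟩
    by_contra hMt
    have h2 := hidx M hM.le hMt
    simp only [Finset.mem_insert, Finset.mem_singleton] at h2
    have h3 := relIndex_mul_index hM.le
    rw [hn28] at h3
    rcases h2 with h2 | h2 | h2 <;> rw [h2] at h3
    · -- index two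
      have hN2 : (N.subgroupOf M).index = 2 := by
        show N.relIndex M = 2
        omega
      haveI := normal_of_index_eq_two hN2
      refine hM.not_ge fun m hm => ?_
      have hmap : N.map (MulAut.conj m).toMonoidHom ≤ N := by
        rintro _ ⟨y, hy, rfl⟩
        exact mem_subgroupOf.1 (Normal.conj_mem ‹(N.subgroupOf M).Normal› ⟨y, hM.le hy⟩
          (mem_subgroupOf.2 hy) ⟨m, hm⟩)
      haveI : ((V : Subgroup (Matrix.ProjectiveSpecialLinearGroup (Fin 2) F)).subgroupOf N).Normal := normal_in_normalizer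
      let V' : Sylow 3 ↥N := V.subtype le_normalizer
      have hV' : ∀ x ∈ (V : Subgroup (Matrix.ProjectiveSpecialLinearGroup (Fin 2) F)), MulAut.conj m x ∈ (V : Subgroup (Matrix.ProjectiveSpecialLinearGroup (Fin 2) F)) := fun x hx => by
        have hxN := hmap ⟨x, le_normalizer hx, rfl⟩
        obtain ⟨k, hk⟩ := V.2 ⟨x, hx⟩
        let W : Subgroup ↥N := zpowers ⟨MulAut.conj m x, hxN⟩
        have hW : IsPGroup 3 W := by
          rintro ⟨y, hy⟩
          obtain ⟨i, rfl⟩ := mem_zpowers_iff.1 hy
          refine ⟨k, Subtype.ext (Subtype.ext ?_)⟩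
          simp only [SubmonoidClass.coe_pow, SubgroupClass.coe_zpow, OneMemClass.coe_one]
          rw [← zpow_natCast, ← zpow_mul, mul_comm, zpow_mul, zpow_natCast, ← map_pow,
            show x ^ 3 ^ k = 1 from congrArg Subtype.val hk, map_one, one_zpow]
        obtain ⟨S, hS⟩ := hW.exists_le_sylow
        haveI : (V' : Subgroup ↥N).Normal := by
          rw [Sylow.coe_subtype]
          infer_instance
        haveI := Sylow.unique_of_normal V' inferInstance
        rw [Subsingleton.elim S V'] at hS
        exact mem_subgroupOf.1 (by simpa [V', Sylow.coe_subtype] using hS (mem_zpowers _))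
      rw [mem_normalizer_iff_map_conj_eq]
      refine eq_of_le_of_card_ge ?_ (Nat.card_congr ((V : Subgroup (Matrix.ProjectiveSpecialLinearGroup (Fin 2) F)).equivMapOfInjective _
        (MulAut.conj m).injective).toEquiv).le
      rintro _ ⟨x, hx, rfl⟩
      exact hV' x hx
    · refine hM.ne ?_
      exact eq_of_le_of_card_ge hM.le (by
        have a := card_mul_index M; have b := card_mul_index N; rw [h2] at a; rw [hn28] at b
        rw [hG] at a b; omega)
    · omega
  · exact hr

end Cfsg.Agent.PMinSocle
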