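import Cfsg.Agent.Lib.PMinSocle.Twisted
import Cfsg.Agent.Lib.BorelTitsOver.Tits

/-!
# The shape of the Tits group
-/

set_option autoImplicit false
set_option linter.unusedSectionVars false
set_option maxRecDepth 8000
set_option maxHeartbeats 800000

namespace Cfsg.Agent.PMinSocle

namespace TitsCase

open Cfsg.Lie Cfsg.Agent.Chev Cfsg.Agent.Chev.Tab Cfsg.Agent.BN
open Cfsg.Agent.BTOver.TitsCase
open Cfsg.Agent.Chev.Tits (K2 TW cardK)

/-- An overgroup of `U` lies in the parabolic subgroup of the minimal ones it contains. -/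
theorem le_parabolic {MG : Subgroup ↥XT.G1} (hBT : PT.B ⊓ commutator ↥XT.G1 ≤ MG)
    (hMT : MG ≤ commutator ↥XT.G1) : MG ≤ PT.parabolic {s | s ∈ PT.S ∧ A s ≤ MG} := by
  classical
  set T : Subgroup ↥XT.G1 := commutator ↥XT.G1
  set J : Set ↥XT.G1 := {s | s ∈ PT.S ∧ A s ≤ MG}
  -- every cell met by `MG` is in the parabolic subgroup of `J`
  have main : ∀ k, ∀ m ∈ MG, ∀ w, m ∈ cell PT w → len PT w = k → m ∈ PT.parabolic J := by
    intro k
    induction k using Nat.strong_induction_on with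
    | _ k IH =>
      intro m hm w hmw hk
      obtain ⟨n, hn, rfl⟩ := BN.exists_rep PT w
      obtain ⟨l, hl, hle⟩ := exists_reduced PT (wmk PT n hn)
      cases l with
      | nil =>
        rw [wp_nil] at hle
        rw [← hle, cell_one] at hmw
        exact B_le_parabolic PT _ hmw
      | cons s l =>
        simp only [List.length_cons] at hl
        rw [wp_cons] at hle
        have hlt : len PT (σ PT s * wmk PT n hn) < len PT (wmk PT n hn) := by
          have := len_wp_le PT l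
          rw [← hle, σ_cancel, hle]; omega
        obtain ⟨u, hu, hun⟩ := exists_conj hn s hlt
        rw [cell_mk] at hmw
        obtain ⟨u₁, hu₁, u₂, hu₂, rfl⟩ := DoubleCoset.mem_doubleCoset.1 hmw
        have h1 : u₁ * (n * u * n⁻¹) * u₁⁻¹ ∈ MG := by
          have hu' : u₂⁻¹ * u * u₂⁻¹⁻¹ ∈ PT.B ⊓ T :=
            Subgroup.mem_inf.2 ⟨mul_mem (mul_mem (inv_mem hu₂) (Subgroup.mem_inf.1 hu).1)
              (inv_mem (inv_mem hu₂)), T_normal_conj (Subgroup.mem_inf.1 hu).2⟩
          have := mul_mem (mul_mem hm (hBT hu')) (inv_mem hm)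
          convert this using 1
          group
        have hcs : u₁ * (n * u * n⁻¹) * u₁⁻¹ ∈ cell PT (σ PT s) :=
          cell_mul_right PT (inv_mem hu₁) (cell_mul_left PT hu₁ hun)
        have hsJ : (s : ↥XT.G1) ∈ J := ⟨s.2, A_le hBT hMT s.2 h1 hcs⟩
        have hx : u₁ * (s : ↥XT.G1) * u₁⁻¹ ∈ A (s : ↥XT.G1) :=
          Subgroup.mem_inf.2 ⟨mul_mem (mul_mem (B_le_parabolic PT _ hu₁) (subset_parabolic PT _ rfl))
            (inv_mem (B_le_parabolic PT _ hu₁)), T_normal_conj (s_mem_T s.2)⟩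
        have hsn : (s : ↥XT.G1) * n ∈ cell PT (σ PT s * wmk PT n hn) := by
          rw [σ, ← wmk_mul PT (PT.subset s.2) hn, cell_mk]; exact self_mem_dc PT _
        have hcell : u₁ * (s : ↥XT.G1) * u₁⁻¹ * (u₁ * n * u₂) ∈ cell PT (σ PT s * wmk PT n hn) := by
          rw [show u₁ * (s : ↥XT.G1) * u₁⁻¹ * (u₁ * n * u₂) = u₁ * ((s : ↥XT.G1) * n * u₂) by group]
          exact cell_mul_left PT hu₁ (cell_mul_right PT hu₂ hsn)
        have h2 := IH _ (hk ▸ hlt) _ (mul_mem (hsJ.2 hx) hm) _ hcell rfl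
        have hxP : u₁ * (s : ↥XT.G1) * u₁⁻¹ ∈ PT.parabolic J :=
          mul_mem (mul_mem (B_le_parabolic PT _ hu₁) (subset_parabolic PT _ hsJ))
            (inv_mem (B_le_parabolic PT _ hu₁))
        have := mul_mem (inv_mem hxP) h2
        simpa [mul_assoc] using this
  have hMP : MG ≤ PT.parabolic J := fun m hm => by
    obtain ⟨w, hw⟩ := bruhat PT m
    exact main _ m hm w hw rfl
  exact hMP

/-- The representative of an orbit. -/
noncomputable def nd (b : Fin 2) : ↥XT.G1 := Tw.node XT b.1 b.2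

theorem nd_mem (b : Fin 2) : nd b ∈ PT.S := Tw.node_mem XT (TwF4.blocks cardK) hqT (TwF4.hblk cardK) b.1 b.2

theorem exists_nd {s : ↥XT.G1} (hs : s ∈ PT.S) : ∃ b, s = nd b := by
  obtain ⟨b, hb, e⟩ := hs
  exact ⟨⟨b, hb⟩, Subtype.ext e⟩

theorem relIndex_A {s : ↥XT.G1} (hs : s ∈ PT.S) : PT.B.relIndex (A s) = PT.B.relIndex (PT.parabolic {s}) := by
  set T : Subgroup ↥XT.G1 := commutator ↥XT.G1
  set P := PT.parabolic {s}
  have hBP : PT.B ≤ P := B_le_parabolic PT _
  have hT : ∀ H : Subgroup ↥XT.G1, PT.B ≤ H → (T ⊓ H).relIndex H = 2 := fun H hH => by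
    rw [Subgroup.inf_relIndex_right, ← Subgroup.relIndex_sup_right H T,
      top_le_iff.1 (B_sup_T.ge.trans (sup_le_sup_right hH T)), Subgroup.relIndex_top_right]
    exact Chev.Tits.index_two
  have h1 := Subgroup.relIndex_mul_relIndex (T ⊓ PT.B) PT.B P inf_le_right hBP
  have h2 := Subgroup.relIndex_mul_relIndex (T ⊓ PT.B) (T ⊓ P) P (inf_le_inf_left _ hBP) inf_le_right
  rw [hT _ le_rfl] at h1
  rw [hT _ hBP, ← h1] at h2
  have e : PT.B.relIndex (A s) = (T ⊓ PT.B).relIndex (T ⊓ P) := by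
    show PT.B.relIndex (P ⊓ T) = _
    rw [inf_comm P T, ← Subgroup.inf_relIndex_right PT.B (T ⊓ P), ← inf_assoc, inf_comm PT.B T, inf_assoc,
      inf_eq_left.2 hBP]
  rw [e]
  omega

theorem relIndex_A0 : PT.B.relIndex (A (nd 0)) = 3 := by
  rw [relIndex_A (nd_mem 0)]
  have h := Tw.relIndex_node XT (TwF4.blocks cardK) hqT (TwF4.hblk cardK) (b := 0) (show 0 < 2 by decide)
  rw [show Nat.card ↥(uMinus TwF4.gW.toGood K2 (XT.w 0) ⊓ XT.G1) = 2 from
    (TwF4.card_orbit0 (F := K2) (m := 0) cardK).trans (by norm_num)] at h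
  exact h

theorem relIndex_A1 : PT.B.relIndex (A (nd 1)) = 5 := by
  rw [relIndex_A (nd_mem 1)]
  have h := Tw.relIndex_node XT (TwF4.blocks cardK) hqT (TwF4.hblk cardK) (b := 1) (show 1 < 2 by decide)
  rw [show Nat.card ↥(uMinus TwF4.gW.toGood K2 (XT.w 1) ⊓ XT.G1) = 4 from
    (TwF4.card_orbit1 (F := K2) (m := 0) cardK).trans (by norm_num)] at h
  exact h

theorem relIndex_nd : ∀ b : Fin 2, PT.B.relIndex (A (nd b)) = ![3, 5] b :=
  Fin.forall_fin_two.2 ⟨relIndex_A0, relIndex_A1⟩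

theorem relIndex_A_inj {b c : Fin 2} (h : PT.B.relIndex (A (nd b)) = PT.B.relIndex (A (nd c))) : b = c := by
  rw [relIndex_nd, relIndex_nd] at h
  revert h
  revert b c
  decide

theorem relIndex_A_le (b : Fin 2) :
    1 < PT.B.relIndex (A (nd b)) ∧ PT.B.relIndex (A (nd b)) ≤ 5 := by
  rw [relIndex_nd]
  revert b
  decide

/-- The Sylow subgroup of the Tits group. -/
noncomputable abbrev U0 : Subgroup ↥(commutator ↥XT.G1) := PT.B.subgroupOf (commutator ↥XT.G1)

/-- The minimal overgroups of the Sylow subgroup. -/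
noncomputable def A0 (b : Fin 2) : Subgroup ↥(commutator ↥XT.G1) := (A (nd b)).subgroupOf (commutator ↥XT.G1)

theorem relIndex_A0' (b : Fin 2) : U0.relIndex (A0 b) = PT.B.relIndex (A (nd b)) :=
  Subgroup.relIndex_subgroupOf inf_le_right

theorem U0_index : U0.index = 3 ^ 3 * 5 ^ 2 * 13 := by
  set T : Subgroup ↥XT.G1 := commutator ↥XT.G1
  have h1 : (T ⊓ PT.B).relIndex PT.B = 2 := by
    rw [Subgroup.inf_relIndex_right, ← Subgroup.relIndex_sup_right PT.B T, B_sup_T,
      Subgroup.relIndex_top_right]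
    exact Chev.Tits.index_two
  have h2 : Nat.card ↥(T ⊓ PT.B) * 2 = 2 ^ 12 := by
    have h := ((T ⊓ PT.B).subgroupOf PT.B).card_mul_index
    rw [Nat.card_congr (Subgroup.subgroupOfEquivOfLe (inf_le_right : T ⊓ PT.B ≤ PT.B)).toEquiv,
      show ((T ⊓ PT.B).subgroupOf PT.B).index = 2 from h1, card_B] at h
    exact h
  have h3 : Nat.card ↥U0 = Nat.card ↥(T ⊓ PT.B) := by
    rw [inf_comm]
    show Nat.card ↥(PT.B.subgroupOf T) = _
    rw [← Subgroup.inf_subgroupOf_right PT.B T]
    exact Nat.card_congr (Subgroup.subgroupOfEquivOfLe (inf_le_right : PT.B ⊓ T ≤ T)).toEquiv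
  have h4 := Subgroup.card_mul_index U0
  rw [h3, show Nat.card ↥T = 2 ^ 11 * 3 ^ 3 * 5 ^ 2 * 13 from Chev.Tits.card_T] at h4
  rw [show Nat.card ↥(T ⊓ PT.B) = 2 ^ 11 by omega] at h4
  omega

/-- An overgroup with the index of a minimal one is that minimal one. -/
theorem unique {M : Subgroup ↥(commutator ↥XT.G1)} (hU : U0 ≤ M) (b : Fin 2)
    (hM : U0.relIndex M = PT.B.relIndex (A (nd b))) : M = A0 b := by
  set MG := M.map (commutator ↥XT.G1).subtype with hMG
  have hMT : MG ≤ (commutator ↥XT.G1) := Subgroup.map_subtype_le _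
  have hBT : PT.B ⊓ (commutator ↥XT.G1) ≤ MG := fun x hx =>
    ⟨⟨x, hx.2⟩, hU (show (⟨x, hx.2⟩ : ↥(commutator ↥XT.G1)) ∈ U0 from hx.1), rfl⟩
  have hle := le_parabolic hBT hMT
  have hrel : PT.B.relIndex MG = U0.relIndex M := (Subgroup.relIndex_comap PT.B (commutator ↥XT.G1).subtype M).symm
  have hb := relIndex_A_le b
  have hnall : ¬ ∀ c, A (nd c) ≤ MG := by
    intro hall
    have htop : (commutator ↥XT.G1) ≤ MG := T_le_iSup.trans (iSup_le fun s => by
      obtain ⟨c, hc⟩ := exists_nd s.2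
      rw [hc]; exact hall c)
    have : M = ⊤ := by
      rw [eq_top_iff]
      intro x _
      obtain ⟨y, hy, e⟩ := htop x.2
      rwa [← (commutator ↥XT.G1).subtype_injective e]
    rw [this, Subgroup.relIndex_top_right, U0_index] at hM
    omega
  obtain ⟨c, hc⟩ : ∃ c, A (nd c) ≤ MG := by
    by_contra hnone
    push Not at hnone
    have he : {s | s ∈ PT.S ∧ A s ≤ MG} = (∅ : Set ↥XT.G1) := Set.eq_empty_of_forall_notMem fun s hs => by
      obtain ⟨c, rfl⟩ := exists_nd hs.1
      exact hnone c hs.2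
    rw [he] at hle
    have h1 : PT.B.relIndex MG = 1 := Subgroup.relIndex_eq_one.2 (hle.trans (by simp [Cfsg.BNPair.parabolic]))
    omega
  have heq : MG = A (nd c) := by
    refine le_antisymm (le_inf (hle.trans (sup_le (B_le_parabolic PT _)
      ((Subgroup.closure_le _).2 ?_))) hMT) hc
    rintro s ⟨hs, hsM⟩
    obtain ⟨d, rfl⟩ := exists_nd hs
    obtain rfl : d = c := by
      by_contra hne
      exact hnall fun e => by
        rcases (show e = d ∨ e = c by omega) with rfl | rfl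
        · exact hsM
        · exact hc
    exact subset_parabolic PT _ rfl
  rw [heq] at hrel
  obtain rfl := relIndex_A_inj (hM.symm.trans hrel.symm)
  refine Subgroup.map_injective (commutator ↥XT.G1).subtype_injective ?_
  rw [← hMG, heq]
  exact (Subgroup.map_subgroupOf_eq_of_le inf_le_right).symm

theorem rigid : Rigid U0 := by
  haveI : IsSimpleGroup ↥(commutator ↥XT.G1) := Chev.Tits.simple.1
  haveI : Fact (Nat.Prime 2) := ⟨Nat.prime_two⟩
  refine ⟨fun h => ?_, Set.range A0, ?_, ?_⟩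
  · haveI : U0.Normal := Subgroup.normalizer_eq_top_iff.1 h
    have hi := U0_index
    rcases IsSimpleGroup.eq_bot_or_eq_top_of_normal U0 inferInstance with h | h <;> rw [h] at hi
    · rw [Subgroup.index_bot, show Nat.card ↥(commutator ↥XT.G1) = 2 ^ 11 * 3 ^ 3 * 5 ^ 2 * 13 from
        Chev.Tits.card_T] at hi
      omega
    · rw [Subgroup.index_top] at hi
      omega
  · refine Subgroup.map_injective (commutator ↥XT.G1).subtype_injective ?_
    rw [← MonoidHom.range_eq_map, Subgroup.range_subtype]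
    refine le_antisymm (Subgroup.map_subtype_le _) (T_le_iSup.trans (iSup_le fun s => ?_))
    obtain ⟨c, hc⟩ := exists_nd s.2
    rw [hc]
    exact (Subgroup.map_subgroupOf_eq_of_le (inf_le_right : A (nd c) ≤ commutator ↥XT.G1)).ge.trans
      (Subgroup.map_mono (le_sSup ⟨c, rfl⟩))
  · rintro _ ⟨b, rfl⟩
    have hU : U0 ≤ A0 b := fun x hx => ⟨B_le_parabolic PT _ hx, x.2⟩
    refine ⟨fun h => ?_, hU, fun α hα => unique (hα.ge.trans (Subgroup.map_mono hU)) b ?_⟩
    · have hr := relIndex_A0' b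
      rw [h, Subgroup.relIndex_top_right, U0_index] at hr
      have := relIndex_A_le b
      omega
    · rw [← relIndex_A0' b]
      conv_lhs => arg 1; rw [← hα]
      exact Subgroup.relIndex_map_map_of_injective _ _ α.injective

end TitsCase

/-- Transport from a named Sylow subgroup. -/
theorem shape_of {G L : Type*} [Group G] [Group L] [Finite G] {p : ℕ} [Fact p.Prime] (T : Subgroup G)
    (e : L ≃* ↥T) (W : Subgroup ↥T) (hp : IsPGroup p W) (hx : ¬ p ∣ W.index) (h : Shape p ↥T W) (U : Sylow p L) :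
    Shape p L (U : Subgroup L) := by
  haveI : Finite L := Finite.of_equiv _ e.symm.toEquiv
  refine Shape.sylow e.symm (hp.toSylow hx) ?_ U
  rw [IsPGroup.toSylow_coe]
  exact h

namespace TitsCase

open Cfsg.Agent.BTOver.TitsCase

theorem U0_isPGroup : IsPGroup 2 U0 :=
  B_isPGroup.comap_of_injective (commutator ↥XT.G1).subtype (Subgroup.subtype_injective _)

theorem U0_odd : ¬ 2 ∣ U0.index := by
  rw [U0_index]
  decide

theorem shape : Shape 2 ↥(commutator ↥XT.G1) U0 := Or.inr rigid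

end TitsCase

open BTOver.TitsCase in
theorem good_tits_aux {L : Type*} [Group L] (e : L ≃* ↥(commutator ↥XT.G1)) (U : Sylow 2 L) :
    Shape 2 L (U : Subgroup L) := by
  haveI : Fact (Nat.Prime 2) := ⟨Nat.prime_two⟩
  exact shape_of (commutator ↥XT.G1) e TitsCase.U0 TitsCase.U0_isPGroup TitsCase.U0_odd TitsCase.shape U

theorem good_tits {L : Type*} [Group L] (h : Cfsg.Lie.IsoTits L) (U : Sylow 2 L) :
    Shape 2 L (U : Subgroup L) := by
  obtain ⟨e⟩ := h
  exact good_tits_aux e U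

end Cfsg.Agent.PMinSocle
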