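import Cfsg.Agent.Lib.PMinSocle.Linear

/-!
# Atoms and diagrams of the fixed groups of twists and of split subgroups of special linear groups
-/

set_option autoImplicit false
set_option linter.unusedSectionVars false
set_option maxHeartbeats 400000

namespace Cfsg.Agent.PMinSocle

open Matrix Cfsg.Agent.SLPair Cfsg.Agent.BTOver
open Cfsg.Agent.SLBlocks (uniU)

variable {n : ℕ} {F : Type*} [Field F] [Fintype F]

section TwistCase

variable (T : Twist n F)

theorem split_twist : Split T.pair ((uniU n F).subgroupOf T.G) where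
  le := fun _ h => Subgroup.mem_subgroupOf.2 (Subgroup.mem_subgroupOf.1 h).1
  conj := fun b hb u hu => Subgroup.mem_subgroupOf.2
    (conj_uni (Subgroup.mem_subgroupOf.1 hb) (Subgroup.mem_subgroupOf.1 hu))
  decomp := fun b hb => by
    obtain ⟨t, ht, ht1, ht2⟩ := exists_torus (show (b : SLn n F) ∈ bSub n F from hb)
    have htf := T.torus_fixed (T.fixed b b.2) ht ht1
    have hf : (b : SLn n F) * t⁻¹ ∈ T.G := T.memU _ ht2 (by rw [map_mul, map_inv, T.fixed b b.2, htf])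
    have htG : t ∈ T.G := by
      rw [show t = ((b : SLn n F) * t⁻¹)⁻¹ * (b : SLn n F) by group]
      exact mul_mem (inv_mem hf) b.2
    refine ⟨⟨_, hf⟩, Subgroup.mem_subgroupOf.2 ht2, ⟨t, htG⟩, ?_, Subtype.ext ?_⟩
    · exact ⟨(mono_one_mem ht).1, (mono_one_mem ht).2⟩
    · exact (inv_mul_cancel_right _ _).symm

theorem repG_injective : Function.Injective T.repG := fun i j h =>
  ref_injective ((T.rep_mono i).unique (by
    have : T.rep i = T.rep j := congrArg Subtype.val h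
    rw [this]
    exact T.rep_mono j))

theorem card_idx : Nat.card (Idx n) = n / 2 := by
  rw [show n / 2 = Nat.card (Fin (n / 2)) by simp]
  refine Nat.card_congr
    { toFun := fun i => ⟨i.1, by have := i.2; omega⟩
      invFun := fun i => ⟨i.1, by have := i.2; omega⟩
      left_inv := fun i => rfl
      right_inv := fun i => rfl }

theorem ncard_S_twist : T.pair.S.ncard = n / 2 :=
  (Set.ncard_range_of_injective (repG_injective T)).trans card_idx

theorem cm_twist (i j : Idx n) : Cm T.pair (T.repG i) (T.repG j) ↔ ref i * ref j = ref j * ref i :=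
  cm_iff_of_B T.pair rfl (T.rep_mono i) (T.rep_mono j)

theorem valence_twist (hn : 6 ≤ n) :
    ∃ s₀ ∈ T.pair.S, ∃ s₁ ∈ T.pair.S, ∃ s₂ ∈ T.pair.S, s₀ ≠ s₂ ∧
      ¬ Cm T.pair s₁ s₀ ∧ ¬ Cm T.pair s₁ s₂ ∧ ∀ t ∈ T.pair.S, t ≠ s₁ → Cm T.pair s₀ t := by
  refine ⟨_, ⟨⟨0, by omega⟩, rfl⟩, _, ⟨⟨1, by omega⟩, rfl⟩, _, ⟨⟨2, by omega⟩, rfl⟩, fun h => ?_, ?_, ?_, ?_⟩
  · simpa using congrArg Subtype.val (repG_injective T h)
  · refine (cm_twist T _ _).not.2 fun h => ?_
    have h' := congrArg (fun σ : Equiv.Perm (Fin n) => ((σ ⟨0, by omega⟩ : Fin n) : ℕ)) h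
    simp only [Equiv.Perm.mul_apply, ref_val] at h'
    rw [show refN n 0 0 = 1 by unfold refN; split_ifs <;> omega,
      show refN n 1 0 = 0 from refN_of_lt (by omega) Nat.one_pos,
      show refN n 0 0 = 1 by unfold refN; split_ifs <;> omega] at h'
    have := ref_self_ne (⟨1, by omega⟩ : Idx n)
    exact this h'
  · refine (cm_twist T _ _).not.2 fun h => ?_
    have h' := congrArg (fun σ : Equiv.Perm (Fin n) => ((σ ⟨1, by omega⟩ : Fin n) : ℕ)) h
    simp only [Equiv.Perm.mul_apply, ref_val] at h'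
    rw [show refN n 2 1 = 1 from refN_of_lt (by omega) (by omega),
      show refN n 1 1 = 2 by unfold refN; split_ifs <;> omega] at h'
    exact ref_self_ne (⟨2, by omega⟩ : Idx n) h'.symm
  · rintro _ ⟨⟨j, hj⟩, rfl⟩ hne
    rcases (show j = 0 ∨ j = 1 ∨ 2 ≤ j by omega) with rfl | rfl | h2
    · exact Cm.refl _ _
    · exact absurd rfl hne
    · refine (cm_twist T _ _).2 (Equiv.ext fun a => Fin.ext ?_)
      have ha := a.2
      simp only [Equiv.Perm.mul_apply, ref_val]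
      have hj2 : ∀ b < n, b < 2 ∨ n < b + 3 → refN n j b = b := fun b hb hout => by
        unfold refN; split_ifs <;> omega
      have hj3 : ∀ b < n, 2 ≤ b → b + 3 ≤ n → 2 ≤ refN n j b ∧ refN n j b + 3 ≤ n := fun b hb h h' => by
        unfold refN; split_ifs <;> omega
      have h02 : ∀ b < n, 2 ≤ b → b + 3 ≤ n → refN n 0 b = b := fun b hb h h' => by
        unfold refN; split_ifs <;> omega
      have h03 : ∀ b < n, b < 2 ∨ n < b + 3 → refN n 0 b < 2 ∨ n < refN n 0 b + 3 := fun b hb hout => by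
        unfold refN; split_ifs <;> omega
      have hl := refN_lt (i := 0) (show 2 * 0 + 2 ≤ n by omega) ha
      have hlj := refN_lt hj ha
      by_cases hout : (a : ℕ) < 2 ∨ n < (a : ℕ) + 3
      · rw [hj2 _ ha hout, hj2 _ hl (h03 _ ha hout)]
      · rw [h02 _ ha (by omega) (by omega)]
        have h4 := hj3 _ ha (by omega) (by omega)
        rw [h02 _ hlj h4.1 h4.2]

/-- The elements of the root group of a node. -/
noncomputable def rootY (i : Idx n) : Subgroup ↥T.G :=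
  (uniU n F ⊓ (loU n F).comap (MulAut.conj (T.rep i)).toMonoidHom).subgroupOf T.G

theorem mem_rootY {i : Idx n} {v : ↥T.G} :
    v ∈ rootY T i ↔ (v : SLn n F) ∈ uniU n F ∧ T.rep i * v * (T.rep i)⁻¹ ∈ loU n F := Iff.rfl

theorem relIndex_twist (i : Idx n) :
    T.pair.B.relIndex (T.pair.parabolic {T.repG i}) = Nat.card (rootY T i) + 1 := by
  set s := T.repG i with hs
  have hsS : s ∈ T.pair.S := ⟨i, rfl⟩
  have hsq : s * s ∈ T.pair.B := T.pair.sq_mem s hsS
  have flip : ∀ x : ↥T.G, s * x * s⁻¹ ∈ T.pair.B ↔ s⁻¹ * x * s ∈ T.pair.B := fun x => by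
    rw [show s * x * s⁻¹ = (s * s) * (s⁻¹ * x * s) * (s * s)⁻¹ by group,
      T.pair.B.mul_mem_cancel_right (inv_mem hsq), T.pair.B.mul_mem_cancel_left hsq]
  refine relIndex_parabolic T.pair hsS (rootY T i) (fun x hx => ((mem_rootY T).1 hx).1.1)
    ?_ ?_
  · intro b hb
    obtain ⟨u, hu, t, ht, rfl⟩ := (split_twist T).decomp b hb
    have hu' : (u : SLn n F) ∈ uniU n F := hu
    obtain ⟨v₁, v₂, hv₁, hv₂, hA, hB, e⟩ := uni_factor (T.rep_mono i) (inv_mem hu')
    have hsf := T.rep_fixed i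
    have huf : T.τ ((u : SLn n F))⁻¹ = ((u : SLn n F))⁻¹ := by rw [map_inv, T.fixed u u.2]
    have h2f : T.τ v₂ = v₂ := by
      have hA' : T.rep i * T.τ v₁ * (T.rep i)⁻¹ ∈ uniU n F := by
        have := T.uni _ hA
        rwa [map_mul, map_mul, map_inv, hsf] at this
      have hB' : T.rep i * T.τ v₂ * (T.rep i)⁻¹ ∈ loU n F := by
        have := T.low _ hB
        rwa [map_mul, map_mul, map_inv, hsf] at this
      have e' : T.τ v₁ * T.τ v₂ = v₁ * v₂ := by rw [← map_mul, ← e, huf]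
      have h1 : (T.rep i * v₁ * (T.rep i)⁻¹)⁻¹ * (T.rep i * T.τ v₁ * (T.rep i)⁻¹) =
          (T.rep i * v₂ * (T.rep i)⁻¹) * (T.rep i * T.τ v₂ * (T.rep i)⁻¹)⁻¹ := by
        rw [show (T.rep i * v₁ * (T.rep i)⁻¹)⁻¹ * (T.rep i * T.τ v₁ * (T.rep i)⁻¹) =
          T.rep i * (v₁⁻¹ * (T.τ v₁ * T.τ v₂) * (T.τ v₂)⁻¹) * (T.rep i)⁻¹ by group, e']
        group
      have h2 := uni_loU_eq_one (mul_mem (inv_mem hA) hA').1 (h1 ▸ mul_mem hB (inv_mem hB'))
      rw [h1] at h2
      exact (mul_left_cancel (mul_right_cancel (mul_inv_eq_one.1 h2))).symm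
    set y : ↥T.G := ⟨v₂, T.memU v₂ hv₂ h2f⟩
    refine ⟨y⁻¹, inv_mem ((mem_rootY T).2 ⟨hv₂, hB⟩), (flip _).1 ?_⟩
    rw [inv_inv, show s * (y * (u * t)) * s⁻¹ = (s * (y * u) * s⁻¹) * (s * t * s⁻¹) by group]
    refine mul_mem ?_ (T.pair.conj_mem s (T.pair.subset hsS) t ht)
    show T.rep i * (v₂ * (u : SLn n F)) * (T.rep i)⁻¹ ∈ bSub n F
    rw [show v₂ * (u : SLn n F) = v₁⁻¹ by
      rw [eq_inv_iff_mul_eq_one]
      rw [show v₂ * (u : SLn n F) * v₁ = v₁⁻¹ * (v₁ * v₂) * (u : SLn n F) * v₁ by group, ← e]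
      group,
      show T.rep i * v₁⁻¹ * (T.rep i)⁻¹ = (T.rep i * v₁ * (T.rep i)⁻¹)⁻¹ by group]
    exact (inv_mem hA).1
  · intro y hy hyB
    have h : T.rep i * y * (T.rep i)⁻¹ ∈ bSub n F := (flip y).2 hyB
    have h2 := uni_loU_eq_one (show (T.rep i * (y : SLn n F) * (T.rep i)⁻¹).1.IsUpperTriangular from h)
      ((mem_rootY T).1 hy).2
    exact Subtype.ext (conj_eq_one_iff.1 h2)

variable {F : Type} [Field F] [Fintype F] (T : Twist n F) {p : ℕ} [Fact p.Prime] [CharP F p]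
  {H K : Type*} [Group H] [Group K]

theorem shape_twist (e : T.G ≃* H) (g : K ≃* H ⧸ Subgroup.center H) (h : Reason T.pair p K)
    (U : Sylow p K) : Shape p K (U : Subgroup K) := by
  refine shape_quot T.pair (T.sylow p) (split_twist T)
    ((QuotientGroup.mk' (Subgroup.center H)).comp e.toMonoidHom)
    ((QuotientGroup.mk'_surjective _).comp e.surjective) ?_ g.symm h U
  intro x hx
  refine T.center_le (Subgroup.mem_center_iff.2 fun z => e.injective ?_)
  rw [map_mul, map_mul]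
  exact Subgroup.mem_center_iff.1 ((QuotientGroup.eq_one_iff _).1 hx) (e z)

end TwistCase

section SplitCase

variable (T : SLPair.Split n F)

theorem split_split : Split T.pair ((uniU n F).subgroupOf T.G) where
  le := fun _ h => Subgroup.mem_subgroupOf.2 (Subgroup.mem_subgroupOf.1 h).1
  conj := fun b hb u hu => Subgroup.mem_subgroupOf.2
    (conj_uni (Subgroup.mem_subgroupOf.1 hb) (Subgroup.mem_subgroupOf.1 hu))
  decomp := fun b hb => by
    obtain ⟨t, ht, -, ht2⟩ := exists_torus (show (b : SLn n F) ∈ bSub n F from hb)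
    obtain ⟨htG, huG⟩ := T.torus_mem b.2 ht ht2
    refine ⟨⟨_, huG⟩, Subgroup.mem_subgroupOf.2 ht2, ⟨t, htG⟩, ?_, Subtype.ext ?_⟩
    · exact ⟨(mono_one_mem ht).1, (mono_one_mem ht).2⟩
    · exact (inv_mul_cancel_right _ _).symm

theorem repG_injective' : Function.Injective T.repG := fun i j h =>
  T.r_inj ((T.rep_mono i).unique (by
    have : T.rep i = T.rep j := congrArg Subtype.val h
    rw [this]
    exact T.rep_mono j))

theorem cm_split (i j : T.ι) : Cm T.pair (T.repG i) (T.repG j) ↔ T.r i * T.r j = T.r j * T.r i :=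
  cm_iff_of_B T.pair rfl (T.rep_mono i) (T.rep_mono j)

theorem valence_split (i₀ i₁ i₂ : T.ι) (hne : i₀ ≠ i₂) (h0 : T.r i₁ * T.r i₀ ≠ T.r i₀ * T.r i₁)
    (h2 : T.r i₁ * T.r i₂ ≠ T.r i₂ * T.r i₁) (hleaf : ∀ j, j ≠ i₁ → T.r i₀ * T.r j = T.r j * T.r i₀) :
    ∃ s₀ ∈ T.pair.S, ∃ s₁ ∈ T.pair.S, ∃ s₂ ∈ T.pair.S, s₀ ≠ s₂ ∧
      ¬ Cm T.pair s₁ s₀ ∧ ¬ Cm T.pair s₁ s₂ ∧ ∀ t ∈ T.pair.S, t ≠ s₁ → Cm T.pair s₀ t := by
  refine ⟨_, ⟨i₀, rfl⟩, _, ⟨i₁, rfl⟩, _, ⟨i₂, rfl⟩, fun h => hne (repG_injective' T h),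
    (cm_split T _ _).not.2 h0, (cm_split T _ _).not.2 h2, ?_⟩
  rintro _ ⟨j, rfl⟩ hj
  exact (cm_split T _ _).2 (hleaf j fun h => hj (by rw [h]))

variable {F : Type} [Field F] [Fintype F] (T : SLPair.Split n F) {p : ℕ} [Fact p.Prime] [CharP F p]
  {H K : Type*} [Group H] [Group K]

theorem shape_split (e : T.G ≃* H) (g : K ≃* H ⧸ Subgroup.center H) (h : Reason T.pair p K)
    (U : Sylow p K) : Shape p K (U : Subgroup K) := by
  refine shape_quot T.pair (T.sylow p) (split_split T)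
    ((QuotientGroup.mk' (Subgroup.center H)).comp e.toMonoidHom)
    ((QuotientGroup.mk'_surjective _).comp e.surjective) ?_ g.symm h U
  intro x hx
  refine T.center_le (Subgroup.mem_center_iff.2 fun z => e.injective ?_)
  rw [map_mul, map_mul]
  exact Subgroup.mem_center_iff.1 ((QuotientGroup.eq_one_iff _).1 hx) (e z)

end SplitCase

end Cfsg.Agent.PMinSocle
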