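import Cfsg.Agent.Lib.PMinSocle.BN
import Cfsg.Agent.Lib.BorelTitsOver.Exc
import Cfsg.Prelude.Def_LieTypeChar

/-!
# The shape of the twisted groups and the Suzuki groups
-/

set_option autoImplicit false
set_option linter.unusedSectionVars false
set_option maxRecDepth 8000
set_option maxHeartbeats 800000

namespace Cfsg.Agent.PMinSocle

open Cfsg.Lie Cfsg.Agent.Chev Cfsg.Agent.Chev.Tab Cfsg.Agent.BN

/-- A maximal normaliser gives a single atom. -/
theorem atoms_coatom {K : Type*} [Group K] {U : Subgroup K}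
    (h : IsCoatom (Subgroup.normalizer (U : Set K))) : Atoms U {⊤} where
  nonempty := Set.singleton_nonempty _
  lt := by
    rintro P rfl
    exact h.1.lt_top
  atom := fun M hM => ⟨⊤, rfl, (h.2 M hM).ge⟩
  top := fun M _ hall => top_le_iff.1 (hall ⊤ rfl)
  proper := fun J hJ hne => by
    rcases Set.subset_singleton_iff_eq.1 hJ with rfl | rfl
    · simpa using h.1
    · exact absurd rfl hne
  anti := by
    rintro P rfl Q rfl -
    rfl

theorem shape_coatom {K : Type*} [Group K] {U : Subgroup K} {p : ℕ}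
    (h : IsCoatom (Subgroup.normalizer (U : Set K))) (h1 : Cfsg.IsLieRankOneChar p K) : Shape p K U :=
  Or.inl ⟨_, atoms_coatom h, Or.inl ⟨Set.ncard_singleton _, h1⟩⟩

namespace Tw

variable {T : Tab} {K : List (List ℕ)} {g : T.GoodK K} {F : Type*} [Field F] [Fintype F]
variable (X : Twist g F) (hB : X.Blocks) {q d : ℕ} (hq : 1 < q)
  (hblk : ∀ b < X.nb, ∃ k, Nat.card ↥(uMinus g.toGood F (X.w b) ⊓ X.G1) = q ^ k ∧
    k * d = (T.invSet (X.w b)).card)

/-- The positive part. -/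
noncomputable def posU : Subgroup ↥X.G1 := (genS g.toGood F (Set.Ico T.N T.n)).subgroupOf X.G1

theorem mem_B {x : ↥X.G1} :
    x ∈ (X.bnPair hB hq hblk).B ↔ (x : GL T.D.Idx F) ∈ T.D.borelSubgroup F :=
  ⟨fun h => (Subgroup.mem_inf.1 (Subgroup.mem_subgroupOf.1 h)).1,
    fun h => Subgroup.mem_subgroupOf.2 (Subgroup.mem_inf.2 ⟨h, x.2⟩)⟩

theorem mem_N {x : ↥X.G1} :
    x ∈ (X.bnPair hB hq hblk).N ↔ (x : GL T.D.Idx F) ∈ T.D.monomialSubgroup F :=
  ⟨fun h => (Subgroup.mem_inf.1 (Subgroup.mem_subgroupOf.1 h)).1,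
    fun h => Subgroup.mem_subgroupOf.2 (Subgroup.mem_inf.2 ⟨h, x.2⟩)⟩

theorem split : BTOver.Split (X.bnPair hB hq hblk) (posU X) where
  le := fun _ hx => (mem_B X hB hq hblk).2
    (genS_pos_le_borel g.toGood (fun _ hr => hr) (Subgroup.mem_subgroupOf.1 hx))
  conj := fun b hb u hu => Subgroup.mem_subgroupOf.2 ((Subgroup.mem_normalizer_iff.1
    (borel_normalizes g.toGood ((mem_B X hB hq hblk).1 hb)) _).1 (Subgroup.mem_subgroupOf.1 hu))
  decomp := fun b hb => by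
    have hg := g.toGood
    obtain ⟨v, hv, hv1, c, hc, e⟩ := X.borel_fixed ((mem_B X hB hq hblk).1 hb) b.2
    exact ⟨⟨v, hv1⟩, Subgroup.mem_subgroupOf.2 hv, ⟨tor T F c, hc⟩,
      ⟨(mem_B X hB hq hblk).2 (torus_le_borel hg c),
        (mem_N X hB hq hblk).2 (torus_le_monomial hg c)⟩, Subtype.ext e⟩

/-- The representative of an orbit. -/
noncomputable def node (b : ℕ) (hb : b < X.nb) : ↥X.G1 := ⟨X.n b, X.n_mem b hb⟩

theorem node_mem (b : ℕ) (hb : b < X.nb) : node X b hb ∈ (X.bnPair hB hq hblk).S := ⟨b, hb, rfl⟩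

theorem conj_neg {b : ℕ} (hb : b < X.nb) {z : GL T.D.Idx F} (hz : z ∈ uMinus g.toGood F (X.w b)) :
    X.n b * z * (X.n b)⁻¹ ∈ genS g.toGood F (Set.Iio T.N) := by
  obtain ⟨a, ha⟩ := X.n_eq b hb
  rw [show X.n b * z * (X.n b)⁻¹ = tor T F a * (nWd g.toGood F (X.w b) * z *
    (nWd g.toGood F (X.w b))⁻¹) * (tor T F a)⁻¹ by rw [ha]; group]
  exact (Subgroup.mem_normalizer_iff.1 (tor_normalizes g.toGood (fun r hr => by
    have := n_def (T := T); have : r < T.N := hr; omega) a) _).1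
    (uMinus_conj_neg g.toGood (X.w_wd hb) hz)

include hB hq hblk in
theorem exists_sylow {p : ℕ} [Fact p.Prime] [CharP F p] :
    ∃ S : Sylow p ↥X.G1, (S : Subgroup ↥X.G1) = posU X := by
  classical
  have hg := g.toGood
  have hexp : ∀ t ∈ (X.bnPair hB hq hblk).B ⊓ (X.bnPair hB hq hblk).N, t ^ Fintype.card Fˣ ∈ posU X := by
    intro t ht
    have hd := borel_inf_monomial hg ((mem_B X hB hq hblk).1 ht.1) ((mem_N X hB hq hblk).1 ht.2)
    rw [diagonalSubgroup_eq hg] at hd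
    obtain ⟨c, hc⟩ := hd
    refine Subgroup.mem_subgroupOf.2 ?_
    rw [SubgroupClass.coe_pow, ← hc, ← map_pow,
      show c ^ Fintype.card Fˣ = 1 from funext fun i => pow_card_eq_one, map_one]
    exact one_mem _
  have hcop : (Fintype.card Fˣ).Coprime p := by
    rw [Nat.coprime_comm, (Fact.out : p.Prime).coprime_iff_not_dvd, Fintype.card_units]
    intro h
    have h1 : p ∣ Fintype.card F := by
      obtain ⟨n, hn, hF⟩ := FiniteField.card F p
      rw [hF]; exact dvd_pow_self p n.pos.ne'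
    have h2 : 1 ≤ Fintype.card F := Fintype.card_pos
    have := Nat.dvd_sub h1 h
    rw [show Fintype.card F - (Fintype.card F - 1) = 1 by omega] at this
    exact (Fact.out : p.Prime).one_lt.ne' (Nat.dvd_one.1 this)
  have hsU : ∀ s ∈ (X.bnPair hB hq hblk).S, ∃ u ∈ posU X, s * u * s⁻¹ ∉ posU X := by
    rintro s ⟨b, hb, e⟩
    obtain ⟨z, hz, hz1, hne⟩ := X.exists_fixed_ne_one hB hq hblk hb
    refine ⟨⟨z, hz1⟩, Subgroup.mem_subgroupOf.2 (uMinus_le_pos hg _ hz), fun h => hne ?_⟩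
    have h' := Subgroup.mem_subgroupOf.1 h
    rw [Subgroup.coe_mul, Subgroup.coe_mul, Subgroup.coe_inv, e] at h'
    exact conj_eq_one_iff.1
      (borel_inf_neg hg (genS_pos_le_borel hg (fun r hr => hr) h') (conj_neg X hb hz))
  have hUp : IsPGroup p (posU X) :=
    (posU_isPGroup hg p).comap_of_injective _ (Subgroup.subtype_injective _)
  exact ⟨hUp.toSylow ((split X hB hq hblk).not_dvd_index hUp hcop hexp hsU), IsPGroup.toSylow_coe _ _⟩

theorem relIndex_node {b : ℕ} (hb : b < X.nb) :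
    (X.bnPair hB hq hblk).B.relIndex ((X.bnPair hB hq hblk).parabolic {node X b hb}) =
      Nat.card ↥(uMinus g.toGood F (X.w b) ⊓ X.G1) + 1 := by
  have hg := g.toGood
  set P := X.bnPair hB hq hblk
  set s := node X b hb
  have hsS : s ∈ P.S := node_mem X hB hq hblk b hb
  have hss : s * s ∈ P.B := P.sq_mem s hsS
  rw [relIndex_parabolic P hsS ((uMinus hg F (X.w b) ⊓ X.G1).subgroupOf X.G1)
    (fun y hy => (mem_B X hB hq hblk).2 (genS_pos_le_borel hg (fun r hr => hr)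
      (uMinus_le_pos hg _ (Subgroup.mem_subgroupOf.1 hy).1))) ?_ ?_,
    Nat.card_congr (Subgroup.subgroupOfEquivOfLe inf_le_right).toEquiv]
  · intro x hx
    obtain ⟨a, ha⟩ := X.n_eq b hb
    have hwd := X.w_wd hb
    obtain ⟨v, hv, hv1, c, hc1, e⟩ := X.borel_fixed ((mem_B X hB hq hblk).1 hx) x.2
    obtain ⟨v0, hv0, hv0w, z, hz, ev⟩ := (pos_decomp g.toGoodA _ hwd le_rfl).1 v⁻¹ (inv_mem hv)
    have hv0G : v0 ∈ T.D.group F := genS_le_group hg hv0
    have hconjpos : ∀ y, nWd hg F (X.w b) * y * (nWd hg F (X.w b))⁻¹ ∈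
        genS hg F (Set.Ico T.N T.n) → X.n b * y * (X.n b)⁻¹ ∈ genS hg F (Set.Ico T.N T.n) := fun y hy => by
      rw [show X.n b * y * (X.n b)⁻¹ =
        tor T F a * (nWd hg F (X.w b) * y * (nWd hg F (X.w b))⁻¹) * (tor T F a)⁻¹ by rw [ha]; group]
      exact (Subgroup.mem_normalizer_iff.1 (tor_normalizes hg (fun r hr => hr.2) a) _).1 hy
    obtain ⟨hsG, hsσ⟩ := X.G1_le _ (X.n_mem b hb)
    have hzv : v0 * z ∈ X.G1 := ev ▸ X.G1.inv_mem hv1
    have hz1 : z ∈ X.G1 := by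
      have hσv0 : nWd hg F (X.w b) * X.σ v0 * (nWd hg F (X.w b))⁻¹ ∈ genS hg F (Set.Ico T.N T.n) := by
        have h1 := X.σ_pos (hconjpos v0 hv0w)
        rw [X.σ_conj hsG hv0G, hsσ, show X.n b * X.σ v0 * (X.n b)⁻¹ =
          tor T F a * (nWd hg F (X.w b) * X.σ v0 * (nWd hg F (X.w b))⁻¹) *
            (tor T F a)⁻¹ by rw [ha]; group] at h1
        exact (Subgroup.mem_normalizer_iff.1 (tor_normalizes hg (fun r hr => hr.2) a) _).2 h1
      obtain ⟨-, hz'⟩ := pos_decomp_unique hg hwd hσv0 hv0w (X.σ_uMinus hwd (X.w_comm hb) hz) hz (by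
        rw [← X.σ_mul _ hv0G _ (genS_le_group hg hz)]; exact (X.G1_le _ hzv).2)
      exact X.uMinus_fixed_mem _ hwd (X.w_comm hb) le_rfl z hz hz'
    have hv01 : v0 ∈ X.G1 := by
      have : v0 = v0 * z * z⁻¹ := by group
      rw [this]; exact X.G1.mul_mem hzv (X.G1.inv_mem hz1)
    refine ⟨⟨z⁻¹, X.G1.inv_mem hz1⟩,
      Subgroup.mem_subgroupOf.2 (Subgroup.mem_inf.2 ⟨inv_mem hz, X.G1.inv_mem hz1⟩), ?_⟩
    have hV : s * ⟨v0, hv01⟩ * s⁻¹ ∈ P.B :=
      (mem_B X hB hq hblk).2 (genS_pos_le_borel hg (fun r hr => hr) (hconjpos v0 hv0w))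
    set t : ↥X.G1 := ⟨tor T F c, hc1⟩
    have htT : t ∈ P.B ⊓ P.N :=
      ⟨(mem_B X hB hq hblk).2 (torus_le_borel hg c), (mem_N X hB hq hblk).2 (torus_le_monomial hg c)⟩
    have hst : s⁻¹ * t * s ∈ P.B := by
      simpa using P.conj_mem s⁻¹ (inv_mem (P.subset hsS)) t htT
    have hyx : (⟨z⁻¹, X.G1.inv_mem hz1⟩ : ↥X.G1)⁻¹ * x = (⟨v0, hv01⟩ : ↥X.G1)⁻¹ * t := by
      refine Subtype.ext ?_
      show (z⁻¹)⁻¹ * (x : GL T.D.Idx F) = v0⁻¹ * tor T F c
      rw [e, show v = (v0 * z)⁻¹ by rw [← ev, inv_inv]]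
      group
    rw [hyx, show s⁻¹ * ((⟨v0, hv01⟩ : ↥X.G1)⁻¹ * t) * s =
      (s * s)⁻¹ * (s * ⟨v0, hv01⟩ * s⁻¹)⁻¹ * (s * s) * (s⁻¹ * t * s) by group]
    exact mul_mem (mul_mem (mul_mem (inv_mem hss) (inv_mem hV)) hss) hst
  · intro y hy hys
    have h1 : s * y * s⁻¹ ∈ P.B := by
      rw [show s * y * s⁻¹ = s * s * (s⁻¹ * y * s) * (s * s)⁻¹ by group]
      exact mul_mem (mul_mem hss hys) (inv_mem hss)
    have h2 := (mem_B X hB hq hblk).1 h1
    exact Subtype.ext (conj_eq_one_iff.1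
      (borel_inf_neg hg h2 (conj_neg X hb (Subgroup.mem_subgroupOf.1 hy).1)))

include hB hq hblk in
/-- The shape from two orbit groups of different sizes, or from a single orbit. -/
theorem shape {p : ℕ} [Fact p.Prime] [CharP F p] {L : Type*} [Group L] (e : L ≃* ↥X.G1) (h0 : 0 < X.nb)
    (h : (∃ b b', b < X.nb ∧ b' < X.nb ∧ (T.invSet (X.w b)).card ≠ (T.invSet (X.w b')).card) ∨
      (X.nb = 1 ∧ Cfsg.IsLieRankOneChar p L))
    (U : Sylow p L) : Shape p L (U : Subgroup L) := by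
  haveI : Finite L := Finite.of_equiv _ e.symm.toEquiv
  obtain ⟨S, hS⟩ := exists_sylow (p := p) X hB hq hblk
  refine Shape.sylow e.symm S ?_ U
  rw [hS]
  have hsp := split X hB hq hblk
  rcases h with ⟨b, b', hb, hb', hne⟩ | ⟨h1, hr⟩
  · refine shape_asym _ hsp ⟨_, node_mem X hB hq hblk b hb⟩
      (asym_index _ hsp (node_mem X hB hq hblk b hb) (node_mem X hB hq hblk b' hb') fun he => hne ?_)
    obtain ⟨k, hk, hkd⟩ := hblk b hb
    obtain ⟨k', hk', hkd'⟩ := hblk b' hb'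
    rw [relIndex_node, relIndex_node, hk, hk'] at he
    rw [← hkd, ← hkd', Nat.pow_right_injective hq (Nat.succ_injective he)]
  · refine shape_one _ hsp ?_ (rankOne_congr e hr)
    rw [Set.ncard_eq_one]
    refine ⟨node X 0 h0, Set.ext fun x => ⟨?_, fun hx => hx ▸ node_mem X hB hq hblk 0 h0⟩⟩
    rintro ⟨b, hb, hx⟩
    obtain rfl : b = 0 := by omega
    exact Subtype.ext hx

end Tw

variable {L : Type*} [Group L] {p : ℕ} [Fact p.Prime]

theorem good_twE6D4 (h : Cfsg.IsTwistedE6D4Char p L) (U : Sylow p L) : Shape p L (U : Subgroup L) := by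
  obtain ⟨F, _, _, _, q, hq, ⟨hF, ⟨e⟩⟩ | ⟨hF, ⟨e⟩⟩⟩ := h
  · refine Tw.shape (TwE6.X hq hF) (TwE6.blocks hq hF) hq.one_lt (TwE6.hblk hq hF) e (show 0 < 4 by decide)
      (Or.inl ⟨0, 2, show 0 < 4 by decide, show 2 < 4 by decide, ?_⟩) U
    show (E6Data.tab.invSet (TwE6.wd 0)).card ≠ (E6Data.tab.invSet (TwE6.wd 2)).card
    rw [TwE6.inv0, TwE6.inv2]
    decide
  · refine Tw.shape (TwD4.X hq hF) (TwD4.blocks hq hF) hq.one_lt (TwD4.hblk hq hF) e (show 0 < 2 by decide)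
      (Or.inl ⟨0, 1, show 0 < 2 by decide, show 1 < 2 by decide, ?_⟩) U
    show (D4Data.tab.invSet (TwD4.wd 0)).card ≠ (D4Data.tab.invSet (TwD4.wd 1)).card
    rw [TwD4.inv0, TwD4.inv1]
    decide

theorem good_twF4 (h : Cfsg.Lie.Iso2F4 L) (U : Sylow 2 L) : Shape 2 L (U : Subgroup L) := by
  haveI : Fact (Nat.Prime 2) := ⟨Nat.prime_two⟩
  obtain ⟨F, _, _, m, hm, hF, ⟨e⟩⟩ := h
  haveI : CharP F 2 := charP_of_card_eq_prime_pow (f := 2 * m + 1) hF
  refine Tw.shape (TwF4.X hF) (TwF4.blocks hF) (TwF4.hq (m := m)) (TwF4.hblk hF) e (show 0 < 2 by decide)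
    (Or.inl ⟨0, 1, show 0 < 2 by decide, show 1 < 2 by decide, ?_⟩) U
  show (F4Data.tab.invSet (TwF4.wd 0)).card ≠ (F4Data.tab.invSet (TwF4.wd 1)).card
  rw [TwF4.inv0, TwF4.inv1]
  decide

theorem good_twG2 (h : Cfsg.Lie.IsoRee L) (U : Sylow 3 L) : Shape 3 L (U : Subgroup L) := by
  haveI : Fact (Nat.Prime 3) := ⟨Nat.prime_three⟩
  have hr : Cfsg.IsLieRankOneChar 3 L := Or.inr (Or.inr (Or.inr ⟨rfl, Or.inl h⟩))
  obtain ⟨F, _, _, m, hm, hF, ⟨e⟩⟩ := h
  haveI : CharP F 3 := charP_of_card_eq_prime_pow (f := 2 * m + 1) hF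
  exact Tw.shape (TwG2.X hF) (TwG2.blocks hF) (TwG2.hq (m := m)) (TwG2.hblk hF) e (show 0 < 1 by decide)
    (Or.inr ⟨rfl, hr⟩) U

theorem good_suzuki (h : Cfsg.Lie.IsoSuzuki L) (U : Sylow 2 L) : Shape 2 L (U : Subgroup L) := by
  haveI : Fact (Nat.Prime 2) := ⟨Nat.prime_two⟩
  classical
  have hr : Cfsg.IsLieRankOneChar 2 L := Or.inr (Or.inr (Or.inl ⟨rfl, h⟩))
  obtain ⟨F, _, _, m, hm, hF, ⟨e⟩⟩ := h
  have hS : Suzuki.SzField F m := ⟨hm, hF⟩
  have e' := e.trans (Suzuki.minorEquiv hS).symm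
  haveI : Finite L := Finite.of_equiv _ e'.symm.toEquiv
  refine Shape.sylow e'.symm
    ((Suzuki.isPGroup_rootGroup hS).toSylow (Suzuki.odd_index_rootGroup hS)) ?_ U
  rw [IsPGroup.toSylow_coe]
  refine shape_coatom ?_ (rankOne_congr e' hr)
  rw [Suzuki.normalizer_rootGroup hS]
  exact Suzuki.isCoatom_borel hS

end Cfsg.Agent.PMinSocle
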