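import Cfsg.Agent.Lib.PMinSocle.Small

/-!
# The shape of `U₃(3)` for `p = 2`
-/

set_option autoImplicit false
set_option linter.unusedSectionVars false
set_option maxRecDepth 8000
set_option maxHeartbeats 1600000

namespace Cfsg.Agent.PMinSocle

namespace U33

open Subgroup Cfsg.Agent.J2
open Cfsg.Agent.BTOver.Small (SU9 su8)

/-- Powers of the square root of `-1`. -/
def ι : Fin 4 → F9 := ![⟨1, 0⟩, ⟨0, 1⟩, ⟨2, 0⟩, ⟨0, 2⟩]

/-- The index group of monomial matrices. -/
abbrev Idx := Fin 4 × Fin 4 × Bool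

/-- The monomial matrices fixing the third line. -/
def uMat : Idx → Matrix (Fin 3) (Fin 3) F9
  | (a, b, false) => !![ι a, 0, 0; 0, ι b, 0; 0, 0, ι (-(a + b))]
  | (a, b, true) => !![0, ι a, 0; ι b, 0, 0; 0, 0, -ι (-(a + b))]

/-- The product on indices. -/
def imul : Idx → Idx → Idx
  | (a, b, false), (c, d, t) => (a + c, b + d, t)
  | (a, b, true), (c, d, t) => (a + d, b + c, !t)

theorem uMat_mul : ∀ i j, uMat i * uMat j = uMat (imul i j) := by decide +kernel

theorem uMat_injective : ∀ i j, uMat i = uMat j → i = j := by decide +kernel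

open Matrix in
theorem uMat_spec : ∀ i, (uMat i).det = 1 ∧ (uMat i)ᵀ * (uMat i).map F9.conj = 1 := by
  intro i
  rw [Matrix.det_fin_three]
  revert i
  decide +kernel

/-- A monomial element. -/
def u (i : Idx) : SU9 :=
  ⟨⟨uMat i, (uMat_spec i).1⟩, (HermSU.mem_SU_iff (q := 3) F9.conj_eq_pow _).2 (uMat_spec i).2⟩

theorem ext_mat {x y : SU9} (h : x.1.1 = y.1.1) : x = y := Subtype.ext (Subtype.ext h)

theorem u_mul (i j : Idx) : u i * u j = u (imul i j) := ext_mat (uMat_mul i j)

theorem u_injective : Function.Injective u := fun i j h =>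
  uMat_injective i j (congrArg (fun x : SU9 => x.1.1) h)

theorem u_one : u (0, 0, false) = 1 := ext_mat (show uMat (0, 0, false) = 1 by decide +kernel)

/-- The inverse on indices. -/
def iinv : Idx → Idx
  | (a, b, false) => (-a, -b, false)
  | (a, b, true) => (-b, -a, true)

theorem u_inv (i : Idx) : (u i)⁻¹ = u (iinv i) := by
  rw [inv_eq_iff_mul_eq_one, u_mul, ← u_one]
  congr 1
  revert i
  decide +kernel

/-- The Sylow `2`-subgroup. -/
def U : Subgroup SU9 where
  carrier := Set.range u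
  one_mem' := ⟨_, u_one⟩
  mul_mem' := by rintro _ _ ⟨i, rfl⟩ ⟨j, rfl⟩; exact ⟨_, (u_mul i j).symm⟩
  inv_mem' := by rintro _ ⟨i, rfl⟩; exact ⟨_, (u_inv i).symm⟩

theorem card_U : Nat.card U = 32 := by
  let f : Idx → ↥U := fun i => ⟨u i, i, rfl⟩
  have hf : Function.Bijective f :=
    ⟨fun i j h => u_injective (congrArg Subtype.val h), fun ⟨_, i, hi⟩ => ⟨i, Subtype.ext hi⟩⟩
  rw [← Nat.card_eq_of_bijective f hf, Nat.card_eq_fintype_card]
  rfl

/-- The squares of the central elements of a subgroup. -/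
def centSq {G : Type*} [Group G] (V : Subgroup G) : Set G :=
  {x | ∃ c ∈ V, (∀ v ∈ V, c * v = v * c) ∧ c * c = x}

/-- The elements commuting with all commutators of a subgroup. -/
def commCent {G : Type*} [Group G] (V : Subgroup G) : Set G :=
  {x | x ∈ V ∧ ∀ y ∈ V, ∀ z ∈ V, x * (y * z * y⁻¹ * z⁻¹) = y * z * y⁻¹ * z⁻¹ * x}

theorem image_centSq {G : Type*} [Group G] {V : Subgroup G} (α : MulAut G)
    (h : V.map α.toMonoidHom = V) : α '' centSq V = centSq V := by
  have hm : ∀ (β : MulAut G), V.map β.toMonoidHom = V → ∀ x ∈ centSq V, β x ∈ centSq V := by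
    rintro β hβ _ ⟨c, hc, hcc, rfl⟩
    refine ⟨β c, hβ.le ⟨c, hc, rfl⟩, fun v hv => ?_, (map_mul β c c).symm⟩
    obtain ⟨w, hw, rfl⟩ := hβ.ge hv
    show β c * β w = β w * β c
    rw [← map_mul, ← map_mul, hcc w hw]
  refine Set.Subset.antisymm (Set.image_subset_iff.2 (hm α h)) fun x hx => ?_
  exact ⟨α⁻¹ x, hm α⁻¹ (map_symm_eq α h) x hx, MulEquiv.apply_symm_apply α x⟩

theorem image_commCent {G : Type*} [Group G] {V : Subgroup G} (α : MulAut G)
    (h : V.map α.toMonoidHom = V) : α '' commCent V = commCent V := by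
  have hm : ∀ (β : MulAut G), V.map β.toMonoidHom = V → ∀ x ∈ commCent V, β x ∈ commCent V := by
    rintro β hβ x ⟨hx, hxc⟩
    refine ⟨hβ.le ⟨x, hx, rfl⟩, fun y hy z hz => ?_⟩
    obtain ⟨y, hy', rfl⟩ := hβ.ge hy
    obtain ⟨z, hz', rfl⟩ := hβ.ge hz
    show β x * (β y * β z * (β y)⁻¹ * (β z)⁻¹) = β y * β z * (β y)⁻¹ * (β z)⁻¹ * β x
    simp only [← map_inv, ← map_mul, hxc y hy' z hz']
  refine Set.Subset.antisymm (Set.image_subset_iff.2 (hm α h)) fun x hx => ?_
  exact ⟨α⁻¹ x, hm α⁻¹ (map_symm_eq α h) x hx, MulEquiv.apply_symm_apply α x⟩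

theorem map_centralizer_image {G : Type*} [Group G] (α : MulAut G) (s : Set G) :
    (centralizer s).map α.toMonoidHom = centralizer (α '' s) := by
  ext x
  constructor
  · rintro ⟨y, hy, rfl⟩
    rw [mem_centralizer_iff]
    rintro _ ⟨z, hz, rfl⟩
    show α z * α y = α y * α z
    rw [← map_mul, ← map_mul, mem_centralizer_iff.1 hy z hz]
  · intro hx
    refine ⟨α.symm x, mem_centralizer_iff.2 fun z hz => α.injective ?_, α.apply_symm_apply x⟩
    rw [map_mul, map_mul, α.apply_symm_apply]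
    exact mem_centralizer_iff.1 hx _ ⟨z, hz, rfl⟩

/-- The centraliser type maximal subgroup. -/
def P1 : Subgroup SU9 := centralizer (centSq U)

/-- The monomial type maximal subgroup. -/
def P2 : Subgroup SU9 := normalizer (commCent U)

theorem centSq_sub : ∀ x ∈ centSq U, ∃ a : Fin 4, x = u (a + a, a + a, false) := by
  rintro _ ⟨_, ⟨i, rfl⟩, hc, rfl⟩
  have h : ∀ j, imul i j = imul j i := fun j =>
    u_injective (by rw [← u_mul, ← u_mul]; exact hc _ ⟨j, rfl⟩)
  have key : ∀ i : Idx, (∀ j, imul i j = imul j i) →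
      ∃ a : Fin 4, imul i i = (a + a, a + a, false) := by decide +kernel
  obtain ⟨a, ha⟩ := key i h
  exact ⟨a, by rw [u_mul, ha]⟩

theorem z_mem : u (2, 2, false) ∈ centSq U := by
  refine ⟨u (1, 1, false), ⟨_, rfl⟩, ?_, by rw [u_mul]; rfl⟩
  rintro _ ⟨j, rfl⟩
  rw [u_mul, u_mul]
  congr 1
  revert j
  decide +kernel

theorem commCent_eq : commCent U = {x | ∃ a b, u (a, b, false) = x} := by
  ext x
  constructor
  · rintro ⟨⟨⟨a, b, t⟩, rfl⟩, hc⟩
    cases t
    · exact ⟨a, b, rfl⟩
    · exfalso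
      have h := hc _ ⟨(1, 0, false), rfl⟩ _ ⟨(0, 0, true), rfl⟩
      simp only [u_inv, u_mul] at h
      have h' := u_injective h
      clear hc h
      revert h'
      revert a b
      decide +kernel
  · rintro ⟨a, b, rfl⟩
    refine ⟨⟨_, rfl⟩, ?_⟩
    rintro _ ⟨j, rfl⟩ _ ⟨k, rfl⟩
    simp only [u_inv, u_mul]
    congr 1
    have h1 : ∀ j k : Idx, (imul (imul (imul j k) (iinv j)) (iinv k)).2.2 = false := by decide +kernel
    have h2 : ∀ a b c d : Fin 4, imul (a, b, false) (c, d, false) = imul (c, d, false) (a, b, false) := by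
      decide +kernel
    obtain ⟨⟨c, d, t⟩, hw⟩ : ∃ w, imul (imul (imul j k) (iinv j)) (iinv k) = w := ⟨_, rfl⟩
    rw [hw]
    obtain rfl : t = false := by simpa [hw] using h1 j k
    exact h2 a b c d

/-- The cyclic monomial matrix. -/
def mat3 : Matrix (Fin 3) (Fin 3) F9 := !![0, 1, 0; 0, 0, 1; 1, 0, 0]

open Matrix in
theorem mat3_spec : mat3.det = 1 ∧ mat3ᵀ * mat3.map F9.conj = 1 := by
  rw [Matrix.det_fin_three]
  decide +kernel

/-- The cyclic permutation of the coordinates. -/
def g3 : SU9 := ⟨⟨mat3, mat3_spec.1⟩, (HermSU.mem_SU_iff (q := 3) F9.conj_eq_pow _).2 mat3_spec.2⟩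

theorem U_le_P1 : U ≤ P1 := by
  intro v hv
  rw [P1, mem_centralizer_iff]
  rintro _ ⟨c, -, hcc, rfl⟩
  rw [mul_assoc, hcc v hv, ← mul_assoc, hcc v hv, mul_assoc]

theorem mem_normalizer_of_conj {S : Set SU9} {g : SU9} [Finite SU9]
    (h : ∀ x ∈ S, g * x * g⁻¹ ∈ S) : g ∈ normalizer S := by
  rw [mem_set_normalizer_iff]
  intro x
  refine ⟨h x, fun hx => ?_⟩
  obtain ⟨⟨y, hy⟩, e⟩ := Finite.surjective_of_injective (f := fun y : S => (⟨g * y * g⁻¹, h y y.2⟩ : S))
    (fun a b e => Subtype.ext (conj_injective (congrArg Subtype.val e))) ⟨g * x * g⁻¹, hx⟩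
  rwa [← conj_injective (congrArg Subtype.val e : g * y * g⁻¹ = g * x * g⁻¹)]

variable [Finite SU9]

theorem U_le_P2 : U ≤ P2 := by
  rintro _ ⟨j, rfl⟩
  refine mem_normalizer_of_conj fun x hx => ?_
  rw [commCent_eq] at hx ⊢
  obtain ⟨a, b, rfl⟩ := hx
  simp only [u_inv, u_mul]
  have key : ∀ (j : Idx) (a b : Fin 4), (imul (imul j (a, b, false)) (iinv j)).2.2 = false := by
    decide +kernel
  obtain ⟨⟨c, d, t⟩, hw⟩ : ∃ w, imul (imul j (a, b, false)) (iinv j) = w := ⟨_, rfl⟩
  rw [hw]
  obtain rfl : t = false := by simpa [hw] using key j a b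
  exact ⟨c, d, rfl⟩

theorem g3_mem : g3 ∈ P2 := by
  refine mem_normalizer_of_conj fun x hx => ?_
  rw [commCent_eq] at hx ⊢
  obtain ⟨a, b, rfl⟩ := hx
  refine ⟨b, -(a + b), ?_⟩
  rw [eq_mul_inv_iff_mul_eq]
  refine ext_mat ?_
  show uMat (b, -(a + b), false) * mat3 = mat3 * uMat (a, b, false)
  revert a b
  decide +kernel

theorem su8_mem : su8 ∈ P1 := by
  rw [P1, mem_centralizer_iff]
  intro x hx
  obtain ⟨a, rfl⟩ := centSq_sub x hx
  clear hx
  refine ext_mat ?_
  show uMat (a + a, a + a, false) * BTOver.Small.mat8 = BTOver.Small.mat8 * uMat (a + a, a + a, false)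
  revert a
  decide +kernel

theorem order_gh : orderOf (g3 * su8) = 7 := by
  haveI : Fact (Nat.Prime 7) := ⟨by norm_num⟩
  refine orderOf_eq_prime (ext_mat ?_) fun h => ?_
  · show (((g3 * su8) ^ 7 : SU9).1.1 : Matrix (Fin 3) (Fin 3) F9) = 1
    simp only [SubmonoidClass.coe_pow, Matrix.SpecialLinearGroup.coe_pow, Subgroup.coe_mul,
      Matrix.SpecialLinearGroup.coe_mul]
    show (mat3 * BTOver.Small.mat8) ^ 7 = 1
    decide +kernel
  · have h' : mat3 * BTOver.Small.mat8 = 1 := congrArg (fun x : SU9 => x.1.1) h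
    revert h'
    decide +kernel

theorem order_g3 : orderOf g3 = 3 := by
  haveI : Fact (Nat.Prime 3) := ⟨Nat.prime_three⟩
  refine orderOf_eq_prime (ext_mat ?_) fun h => ?_
  · show mat3 ^ 3 = 1
    decide +kernel
  · have h' : mat3 = 1 := congrArg (fun x : SU9 => x.1.1) h
    revert h'
    decide +kernel

theorem rigid [IsSimpleGroup SU9] : Rigid U := by
  haveI : Fact (Nat.Prime 2) := ⟨Nat.prime_two⟩
  have hG : Nat.card SU9 = 2 ^ 5 * 189 := by rw [BTOver.Small.card_SU9]; norm_num
  have hn : normalizer (U : Set SU9) ≠ ⊤ := fun h => by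
    haveI : U.Normal := normalizer_eq_top_iff.1 h
    have hc := card_U
    rcases IsSimpleGroup.eq_bot_or_eq_top_of_normal U inferInstance with h | h <;> rw [h] at hc
    · rw [card_bot] at hc; omega
    · rw [card_top, hG] at hc; omega
  have hP1 : P1 ≠ ⊤ := fun h => by
    have hz : u (2, 2, false) ∈ center SU9 := mem_center_iff.2 fun g =>
      (mem_centralizer_iff.1 (h ▸ mem_top g : g ∈ P1) _ z_mem).symm
    rw [BTOver.Small.center_SU9, mem_bot, ← u_one] at hz
    exact absurd (u_injective hz) (by decide)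
  have hP2 : P2 ≠ ⊤ := fun h => by
    have hA : (closure (commCent U)).Normal := ⟨fun x hx g => by
      have hg : g ∈ P2 := h ▸ mem_top g
      induction hx using closure_induction with
      | mem x hx => exact subset_closure ((mem_set_normalizer_iff.1 hg x).1 hx)
      | one => simp
      | mul x y _ _ hx hy =>
        rw [show g * (x * y) * g⁻¹ = g * x * g⁻¹ * (g * y * g⁻¹) by group]
        exact mul_mem hx hy
      | inv x _ hx =>
        rw [show g * x⁻¹ * g⁻¹ = (g * x * g⁻¹)⁻¹ by group]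
        exact inv_mem hx⟩
    have hle : closure (commCent U) ≤ U := (closure_le _).2 fun x hx => hx.1
    rcases IsSimpleGroup.eq_bot_or_eq_top_of_normal _ hA with e | e
    · have : u (1, 0, false) ∈ closure (commCent U) := subset_closure (commCent_eq ▸ ⟨1, 0, rfl⟩)
      rw [e, mem_bot, ← u_one] at this
      exact absurd (u_injective this) (by decide)
    · have hc := card_U
      have hUtop : U = ⊤ := top_le_iff.1 (e ▸ hle)
      rw [hUtop, card_top, hG] at hc
      omega
  refine ⟨hn, {P1, P2}, ?_, ?_⟩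
  · rw [sSup_pair]
    set H := P1 ⊔ P2
    by_contra hne
    have hgh : g3 * su8 ∈ H := mul_mem (mem_sup_right g3_mem) (mem_sup_left su8_mem)
    have h7 : 7 ∣ Nat.card H := order_gh ▸ (H.orderOf_dvd_natCard hgh)
    have h32 : 32 ∣ Nat.card H := card_U ▸ card_dvd_of_le (U_le_P1.trans le_sup_left)
    have hmul := H.card_mul_index
    have h3 : 3 ∣ Nat.card H := order_g3.symm.dvd.trans (H.orderOf_dvd_natCard (mem_sup_right g3_mem))
    have hdvd : 672 ∣ Nat.card H :=
      (Nat.Coprime.mul_dvd_of_dvd_of_dvd (by norm_num)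
        (Nat.Coprime.mul_dvd_of_dvd_of_dvd (by norm_num) h32 h7) h3 : 32 * 7 * 3 ∣ _)
    obtain ⟨c, hc⟩ := hdvd
    have hidx : H.index ∈ (9 : ℕ).divisors :=
      Nat.mem_divisors.2 ⟨⟨c, by rw [hc, hG, mul_assoc] at hmul; rw [mul_comm]; omega⟩, by norm_num⟩
    rw [show Nat.divisors 9 = {1, 3, 9} by decide] at hidx
    simp only [Finset.mem_insert, Finset.mem_singleton] at hidx
    have hf := BTOver.Small.index_dvd_factorial hne
    rcases hidx with h | h | h
    · exact hne (index_eq_one.1 h)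
    · rw [h, hG] at hf; exact absurd hf (by decide)
    · exact BTOver.Small.index_ne_nine (by rw [hG]; norm_num) BTOver.Small.orderOf_su8 h
  · rintro P (rfl | rfl)
    · refine ⟨hP1, U_le_P1, fun α hα => ?_⟩
      rw [P1, map_centralizer_image, image_centSq α hα]
    · refine ⟨hP2, U_le_P2, fun α hα => ?_⟩
      rw [P2, ← image_commCent α hα]
      refine le_antisymm ?_ ?_
      · rintro _ ⟨g, hg, rfl⟩
        replace hg : g ∈ normalizer (α '' commCent U) := hg
        rw [mem_set_normalizer_iff] at hg ⊢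
        intro x
        obtain ⟨y, rfl⟩ := α.surjective x
        have e : α.toMonoidHom g * α y * (α.toMonoidHom g)⁻¹ = α (g * y * g⁻¹) := by simp
        rw [e, α.injective.mem_set_image, α.injective.mem_set_image]
        rw [image_commCent α hα] at hg
        exact hg y
      · intro g hg
        refine ⟨α.symm g, ?_, α.apply_symm_apply g⟩
        rw [image_commCent α hα]
        refine mem_set_normalizer_iff.2 fun y => ?_
        have h := mem_set_normalizer_iff.1 hg (α y)
        rw [show g * α y * g⁻¹ = α (α.symm g * y * (α.symm g)⁻¹) by simp,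
          α.injective.mem_set_image, α.injective.mem_set_image] at h
        exact h

end U33

open Cfsg.Agent.BTOver.Small (SU9 center_SU9) in
theorem good_psu3_three {L : Type*} [Group L] {F : Type} [Field F] [Fintype F] (hF : Fintype.card F = 9)
    (e₀ : L ≃* Cfsg.PSU 3 F 3) (U : Sylow 2 L) : Shape 2 L (U : Subgroup L) := by
  have eK : F ≃+* J2.F9 := FiniteField.ringEquivOfCardEq (by rw [hF, J2.F9.card])
  let su : Cfsg.SU 3 F 3 ≃* SU9 :=
    { toFun := fun A => ⟨Matrix.SpecialLinearGroup.map (eK : F →+* J2.F9) A.1, fun u v => by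
        have h := congrArg eK (A.2 (eK.symm ∘ u) (eK.symm ∘ v))
        simpa [Cfsg.hermForm, Cfsg.slToMat, Matrix.mulVec, dotProduct, map_sum, Function.comp] using h⟩
      invFun := fun A => ⟨Matrix.SpecialLinearGroup.map (eK.symm : J2.F9 →+* F) A.1, fun u v => by
        have h := congrArg eK.symm (A.2 (eK ∘ u) (eK ∘ v))
        simpa [Cfsg.hermForm, Cfsg.slToMat, Matrix.mulVec, dotProduct, map_sum, Function.comp] using h⟩
      left_inv := fun A => Subtype.ext (Subtype.ext (by ext i j; simp))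
      right_inv := fun A => Subtype.ext (Subtype.ext (by ext i j; simp))
      map_mul' := fun A B => Subtype.ext (by simp) }
  let e : Cfsg.PSU 3 F 3 ≃* SU9 :=
    ((QuotientGroup.congr (Subgroup.center (Cfsg.SU 3 F 3)) (Subgroup.center SU9) su
      (by
        ext z
        constructor
        · rintro ⟨w, hw, rfl⟩
          rw [Subgroup.mem_center_iff]
          intro y
          simpa using congrArg su (Subgroup.mem_center_iff.1 hw (su.symm y))
        · intro hz
          refine ⟨su.symm z, Subgroup.mem_center_iff.2 fun y => su.injective ?_, su.apply_symm_apply z⟩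
          simpa using Subgroup.mem_center_iff.1 hz (su y))).trans
      (QuotientGroup.quotientMulEquivOfEq center_SU9)).trans QuotientGroup.quotientBot
  haveI : IsSimpleGroup SU9 := by
    obtain ⟨σ, hσ, hf, hc⟩ := UnitaryStd.exists_setup (F := J2.F9) (q := 3) (n := 3)
      (by rw [J2.F9.card]; norm_num) (by norm_num)
    haveI := UnitaryStd.isSimpleGroup_psu hf (le_refl 3) (fun _ => by rw [hc])
    exact ((QuotientGroup.quotientBot (G := SU9)).symm.trans
      (QuotientGroup.quotientMulEquivOfEq center_SU9.symm)).isSimpleGroup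
  haveI : Fact (Nat.Prime 2) := ⟨Nat.prime_two⟩
  haveI : Finite SU9 := Nat.finite_of_card_ne_zero (by rw [BTOver.Small.card_SU9]; norm_num)
  haveI : Finite L := Finite.of_equiv _ (e₀.trans e).symm.toEquiv
  have hp : IsPGroup 2 U33.U := IsPGroup.of_card (n := 5) (by rw [U33.card_U]; norm_num)
  refine Shape.sylow (e₀.trans e).symm (hp.toSylow fun hd => ?_) ?_ U
  · have := U33.U.card_mul_index
    rw [U33.card_U, BTOver.Small.card_SU9] at this
    omega
  · rw [IsPGroup.toSylow_coe]
    exact Or.inr U33.rigid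

end Cfsg.Agent.PMinSocle
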