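import Cfsg.Agent.Lib.PMinSocle.Twist

/-!
# The root groups of the two nodes of `SU₄(q)` and `SU₅(q)` in characteristic two have different orders
-/

set_option autoImplicit false
set_option linter.unusedSectionVars false
set_option maxHeartbeats 800000

namespace Cfsg.Agent.PMinSocle

open Matrix Cfsg.Agent.SLPair
open Cfsg.Agent.SLBlocks (uniU)

variable {F : Type*} [Field F] [Fintype F]

/-- The equation of the Hermitian form. -/
def HermEq {n : ℕ} (σ : F →+* F) (M : Matrix (Fin n) (Fin n) F) : Prop :=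
  (M.map σ).transpose * antiJ (fun _ => (1 : F)) * M = antiJ (fun _ => (1 : F))

theorem herm_entry {n : ℕ} {σ : F →+* F} {M : Matrix (Fin n) (Fin n) F} (h : HermEq σ M) (a b : Fin n) :
    ∑ k, σ (M k.rev a) * M k b = if b = a.rev then 1 else 0 := by
  have h1 := congrFun (congrFun h a) b
  rw [Matrix.mul_apply] at h1
  simp only [mul_antiJ, Matrix.transpose_apply, Matrix.map_apply, mul_one] at h1
  rw [h1]
  rfl

theorem herm_of_entry {n : ℕ} {σ : F →+* F} {M : Matrix (Fin n) (Fin n) F}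
    (h : ∀ a b, ∑ k, σ (M k.rev a) * M k b = if b = a.rev then 1 else 0) : HermEq σ M := by
  refine Matrix.ext fun a b => ?_
  rw [Matrix.mul_apply]
  simp only [mul_antiJ, Matrix.transpose_apply, Matrix.map_apply, mul_one]
  rw [h a b]
  rfl

variable {n : ℕ} (T : Twist n F) (σ : F →+* F)
  (hT : ∀ g : SLn n F, g ∈ T.G ↔ HermEq σ g.1)

theorem mem_rootY_iff {i : Idx n} {v : ↥T.G} : v ∈ rootY T i ↔
    (v : SLn n F) ∈ uniU n F ∧ ∀ a b, ref i a < ref i b → (v : SLn n F).1 a b = 0 := by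
  rw [mem_rootY]
  exact and_congr_right fun h => conj_mem_lo_iff (T.rep_mono i) h.2

theorem rootY_zero {i : Idx n} {v : ↥T.G} (hv : v ∈ rootY T i) {a b : Fin n} (hne : a ≠ b)
    (hblk : ¬ (a < b ∧ blk i a = blk i b)) : (v : SLn n F).1 a b = 0 := by
  obtain ⟨h1, h2⟩ := (mem_rootY_iff T).1 hv
  rcases lt_or_gt_of_ne hne with h | h
  · refine h2 a b (ref_mono i (lt_of_le_of_ne (blk_mono i h.le) fun e => hblk ⟨h, e⟩))
  · exact h1.1 (show id b < id a from h)

theorem rootY_ext {i : Idx n} {v w : ↥T.G} (hv : v ∈ rootY T i) (hw : w ∈ rootY T i)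
    (h : ∀ a b, a < b → blk i a = blk i b → (v : SLn n F).1 a b = (w : SLn n F).1 a b) : v = w := by
  refine Subtype.ext (Subtype.ext (Matrix.ext fun a b => ?_))
  by_cases hab : a = b
  · rw [hab, ((mem_rootY_iff T).1 hv).1.2, ((mem_rootY_iff T).1 hw).1.2]
  by_cases hblk : a < b ∧ blk i a = blk i b
  · exact h a b hblk.1 hblk.2
  · rw [rootY_zero T hv hab hblk, rootY_zero T hw hab hblk]



theorem card_rootY_four [CharP F 2] (T : Twist 4 F) (hT : ∀ g : SLn 4 F, g ∈ T.G ↔ HermEq σ g.1)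
    (hinv : ∀ a, σ (σ a) = a) (hne : ∃ a, σ a ≠ a) :
    Nat.card (rootY T (⟨1, by norm_num⟩ : Idx 4)) < Nat.card (rootY T (⟨0, by norm_num⟩ : Idx 4)) := by
  classical
  obtain ⟨a₀, ha₀⟩ := hne
  -- the middle node
  have hmid : ∀ v : rootY T (⟨1, by norm_num⟩ : Idx 4), σ (((v : ↥T.G) : SLn 4 F).1 1 2) + ((v : ↥T.G) : SLn 4 F).1 1 2 = 0 := by
    intro v
    have h := herm_entry ((hT _).1 (v : ↥T.G).2) (2 : Fin 4) (2 : Fin 4)
    have h22 := ((mem_rootY_iff T).1 v.2).1.2 (2 : Fin 4)
    have h11 := ((mem_rootY_iff T).1 v.2).1.2 (1 : Fin 4)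
    have h32 : ((v : ↥T.G) : SLn 4 F).1 3 2 = 0 := rootY_zero T v.2 (by decide) (by decide)
    have h02 : ((v : ↥T.G) : SLn 4 F).1 0 2 = 0 := rootY_zero T v.2 (by decide) (by decide)
    have r1 : (1 : Fin 4).rev = 2 := by decide
    have r2 : (2 : Fin 4).rev = 1 := by decide
    have r0 : (0 : Fin 4).rev = 3 := by decide
    have r3 : (3 : Fin 4).rev = 0 := by decide
    rw [Fin.sum_univ_four, r0, r1, r2, r3, h22, h32, h02, map_one, map_zero, if_neg (by decide)] at h
    simpa [add_comm] using h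
  have hlt : Nat.card (rootY T (⟨1, by norm_num⟩ : Idx 4)) < Nat.card F := by
    rw [Nat.card_eq_fintype_card, Nat.card_eq_fintype_card]
    refine Fintype.card_lt_of_injective_of_notMem (fun v => ((v : ↥T.G) : SLn 4 F).1 1 2)
      (fun v w h => Subtype.ext (rootY_ext T v.2 w.2 ?_)) (b := a₀) ?_
    · intro a b hab hblk
      fin_cases a <;> fin_cases b <;> first | exact absurd hab (by decide) | exact absurd hblk (by decide) | exact h
    · rintro ⟨v, hv⟩
      have h := hmid v
      simp only at hv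
      rw [hv] at h
      exact ha₀ (CharTwo.add_eq_zero.1 h)
  refine hlt.trans_le ?_
  let M : F → Matrix (Fin 4) (Fin 4) F := fun t => !![1, t, 0, 0; 0, 1, 0, 0; 0, 0, 1, σ t; 0, 0, 0, 1]
  have hdet : ∀ t, (M t).det = 1 := fun t => by
    rw [Matrix.det_of_upperTriangular (fun a b hab => by
      simp only [id] at hab
      fin_cases a <;> fin_cases b <;> first | exact absurd hab (by decide) | rfl)]
    simp [M, Fin.prod_univ_four]
  have hmem : ∀ t, (⟨M t, hdet t⟩ : SLn 4 F) ∈ T.G := fun t => (hT _).2 (herm_of_entry fun a b => by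
    rw [Fin.sum_univ_four]
    fin_cases a <;> fin_cases b <;> simp [M, Fin.rev, hinv, CharTwo.add_self_eq_zero])
  refine Nat.card_le_card_of_injective
    (fun t => (⟨⟨⟨M t, hdet t⟩, hmem t⟩, (mem_rootY_iff T).2 ⟨⟨fun a b hab => ?_, fun a => ?_⟩, fun a b hab => ?_⟩⟩ :
      rootY T (⟨0, by norm_num⟩ : Idx 4))) fun t u h => ?_
  · simp only [id] at hab
    fin_cases a <;> fin_cases b <;> first | exact absurd hab (by decide) | rfl
  · fin_cases a <;> rfl
  · fin_cases a <;> fin_cases b <;> first | exact absurd hab (by decide) | rfl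
  · have h' := congrArg (fun v : rootY T (⟨0, by norm_num⟩ : Idx 4) => ((v : ↥T.G) : SLn 4 F).1 0 1) h
    simpa [M] using h'

theorem card_rootY_five [CharP F 2] (T : Twist 5 F) (hT : ∀ g : SLn 5 F, g ∈ T.G ↔ HermEq σ g.1)
    (hinv : ∀ a, σ (σ a) = a) (hne : ∃ a, σ a ≠ a) :
    Nat.card (rootY T (⟨0, by norm_num⟩ : Idx 5)) < Nat.card (rootY T (⟨1, by norm_num⟩ : Idx 5)) := by
  classical
  obtain ⟨a₀, ha₀⟩ := hne
  have r0 : (0 : Fin 5).rev = 4 := by decide
  have r1 : (1 : Fin 5).rev = 3 := by decide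
  have r2 : (2 : Fin 5).rev = 2 := by decide
  have r3 : (3 : Fin 5).rev = 1 := by decide
  have r4 : (4 : Fin 5).rev = 0 := by decide
  have hle : Nat.card (rootY T (⟨0, by norm_num⟩ : Idx 5)) ≤ Nat.card F := by
    refine Nat.card_le_card_of_injective (fun v => ((v : ↥T.G) : SLn 5 F).1 0 1)
      fun v w h => Subtype.ext (rootY_ext T v.2 w.2 ?_)
    have key : ∀ u : rootY T (⟨0, by norm_num⟩ : Idx 5),
        σ (((u : ↥T.G) : SLn 5 F).1 0 1) + ((u : ↥T.G) : SLn 5 F).1 3 4 = 0 := by
      intro u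
      have h := herm_entry ((hT _).1 (u : ↥T.G).2) (1 : Fin 5) (4 : Fin 5)
      have h44 := ((mem_rootY_iff T).1 u.2).1.2 (4 : Fin 5)
      have h11 := ((mem_rootY_iff T).1 u.2).1.2 (1 : Fin 5)
      have z1 : ((u : ↥T.G) : SLn 5 F).1 2 1 = 0 := rootY_zero T u.2 (by decide) (by decide)
      have z2 : ((u : ↥T.G) : SLn 5 F).1 3 1 = 0 := rootY_zero T u.2 (by decide) (by decide)
      have z3 : ((u : ↥T.G) : SLn 5 F).1 4 1 = 0 := rootY_zero T u.2 (by decide) (by decide)
      rw [Fin.sum_univ_five, r0, r1, r2, r3, r4, h44, h11, z1, z2, z3, map_one, map_zero, if_neg (by decide)] at h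
      simpa [add_comm] using h
    intro a b hab hblk
    fin_cases a <;> fin_cases b <;> first | exact absurd hab (by decide) | exact absurd hblk (by decide) | exact h | skip
    have h1 := key v
    have h2 := key w
    simp only at h
    rw [h] at h1
    exact add_left_cancel (h1.trans h2.symm)
  refine hle.trans_lt ?_
  set c := a₀ + σ a₀ with hc
  have hc0 : c ≠ 0 := fun h => ha₀ (CharTwo.add_eq_zero.1 h).symm
  have hσc : σ c = c := by rw [hc, map_add, hinv, add_comm]
  let f : F → F := fun a => a * σ a * a₀ / c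
  have hf : ∀ a, f a + σ (f a) = a * σ a := fun a => by
    simp only [f, map_mul, map_div₀, hinv, hσc]
    field_simp
    rw [hc]
  let M : F → F → Matrix (Fin 5) (Fin 5) F := fun a b =>
    !![1, 0, 0, 0, 0; 0, 1, a, b, 0; 0, 0, 1, σ a, 0; 0, 0, 0, 1, 0; 0, 0, 0, 0, 1]
  have hdet : ∀ a b, (M a b).det = 1 := fun a b => by
    rw [Matrix.det_of_upperTriangular (fun x y hxy => by
      simp only [id] at hxy
      fin_cases x <;> fin_cases y <;> first | exact absurd hxy (by decide) | rfl)]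
    simp [M, Fin.prod_univ_five]
  have hmem : ∀ a b, b + σ b = a * σ a → (⟨M a b, hdet a b⟩ : SLn 5 F) ∈ T.G := fun a b hb =>
    (hT _).2 (herm_of_entry fun x y => by
      rw [Fin.sum_univ_five, r0, r1, r2, r3, r4]
      fin_cases x <;> fin_cases y <;> simp [M, hinv, CharTwo.add_self_eq_zero] <;>
        first
        | decide
        | (rw [show σ b + a * σ a + b = (b + σ b) + a * σ a by ring, hb]; exact CharTwo.add_self_eq_zero _)
        | linear_combination hb + (a * σ a) * CharTwo.two_eq_zero (R := F))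
  have hY : ∀ a b (hb : b + σ b = a * σ a),
      (⟨⟨M a b, hdet a b⟩, hmem a b hb⟩ : ↥T.G) ∈ rootY T (⟨1, by norm_num⟩ : Idx 5) := fun a b hb =>
    (mem_rootY_iff T).2 ⟨⟨fun x y hxy => by
      simp only [id] at hxy
      fin_cases x <;> fin_cases y <;> first | exact absurd hxy (by decide) | rfl,
      fun x => by fin_cases x <;> rfl⟩, fun x y hxy => by
      fin_cases x <;> fin_cases y <;> first | exact absurd hxy (by decide) | rfl⟩
  let g : Option F → rootY T (⟨1, by norm_num⟩ : Idx 5) := fun o => o.elim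
    ⟨_, hY 0 1 (by rw [map_one, CharTwo.add_self_eq_zero, zero_mul])⟩ fun a => ⟨_, hY a (f a) (hf a)⟩
  have hg : Function.Injective g := by
    intro o o' h
    have h12 := congrArg (fun v : rootY T (⟨1, by norm_num⟩ : Idx 5) => ((v : ↥T.G) : SLn 5 F).1 1 2) h
    have h13 := congrArg (fun v : rootY T (⟨1, by norm_num⟩ : Idx 5) => ((v : ↥T.G) : SLn 5 F).1 1 3) h
    rcases o with _ | a <;> rcases o' with _ | b
    · rfl
    · simp [g, M] at h12 h13
      simp [f, ← h12] at h13
    · simp [g, M] at h12 h13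
      simp [f, h12] at h13
    · simp [g, M] at h12
      rw [h12]
  have := Nat.card_le_card_of_injective g hg
  rw [Finite.card_option] at this
  omega

end Cfsg.Agent.PMinSocle
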